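import Cfsg.Agent.Lib.Presented.Ly.Out.Data

/-! Generated: the element of order 31 on the first seven basis vectors. -/
set_option autoImplicit false

namespace CfsgLib.Presented.Ly.Out

/-- the images of the seventh basis vector under the powers -/
def powImgs : List ℕ := [0x40000, 0x101, 0x12331c, 0x1180c0, 0xcb321, 0x103319, 0x123498]

/-- the images of the first seven basis vectors -/
def colImgs : List ℕ := [0x4912, 0x9, 0x49623, 0x291, 0x1, 0x8861, 0x101]

/-- the inverse of the matrix of those images -/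
def powInv : List (List ℕ) := [[3, 2, 3, 3, 4, 4, 1],
  [4, 3, 3, 2, 1, 2, 0],
  [4, 4, 4, 3, 0, 1, 0],
  [3, 1, 3, 3, 3, 4, 0],
  [0, 1, 0, 0, 4, 0, 0],
  [1, 0, 1, 1, 0, 4, 0],
  [0, 0, 0, 1, 3, 0, 0]]

end CfsgLib.Presented.Ly.Out
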