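import Cfsg.Agent.Lib.Presented.Ly.Out.Basic
import Cfsg.Agent.Lib.Presented.Ly.Out.DataA
import Mathlib.FieldTheory.Finite.Basic
import Mathlib.Algebra.Polynomial.AlgebraMap
import Mathlib.GroupTheory.PGroup

/-!
An element of order 31 of G₂(5) is self-centralising in the presented Lyons group: on the seven-dimensional space
its centraliser consists of polynomials in it, so has exponent dividing 124, and the centraliser of an involution
has order 14400.
-/
set_option autoImplicit false
set_option maxRecDepth 100000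

namespace CfsgLib.Presented.Ly.Out

open MatFive Polynomial
open Dce (P0)

/-- the element of order 31 in G₂(5) -/
noncomputable def a5 : H5 := evW ev wa

/-- the element of order 31 -/
noncomputable def aL : Cfsg.Spor.Ly := evW evL wa

theorem wa_ok : wa.all (fun x => Nat.blt x 10) = true := by decide +kernel

theorem wa_lt : ∀ x ∈ wa, x < 10 := by decide +kernel

theorem aL_eq : aL = toLy a5 := evL_lt wa_lt

/-- the facts about it -/
def aFacts : List (List ℕ × ℕ × ℕ) := (List.range 7).map fun j => (wa, 8 ^ j, colImgs.getD j 0)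

theorem aFacts_ok : checkVec 111 LyMat.gens aFacts = true := by decide +kernel

theorem aId_ok : checkId 111 LyMat.gens [(List.replicate 31 wa).flatten] = true := by decide +kernel

/-- its matrix -/
def A7 : Matrix (Fin 7) (Fin 7) (ZMod 5) := Matrix.of fun i j => (digit (colImgs.getD j 0) i : ZMod 5)

/-- the matrix of the powers on the seventh basis vector -/
def V7 : Matrix (Fin 7) (Fin 7) (ZMod 5) := Matrix.of fun i k => (digit (powImgs.getD k 0) i : ZMod 5)

/-- its inverse -/
def W7 : Matrix (Fin 7) (Fin 7) (ZMod 5) := Matrix.of fun i j => (((powInv.getD i []).getD j 0 : ℕ) : ZMod 5)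

theorem corner_a5 : corner a5 = A7 := by
  funext i j
  exact corner_entry aFacts_ok wa_ok (List.mem_map.2 ⟨j, List.mem_range.2 j.2, rfl⟩) i

theorem V7_inv : V7 * W7 = 1 := by decide +kernel

theorem A7_ne : A7 ≠ 1 := by decide +kernel

theorem V7_step : ∀ i : Fin 7, V7 i 0 = (if i = 6 then 1 else 0) ∧
    ∀ k : Fin 7, ∀ l : Fin 7, (l : ℕ) = (k : ℕ) + 1 → V7 i l = ∑ m, A7 i m * V7 m k := by decide +kernel

attribute [local irreducible] A7 V7 W7 corner rho a5

theorem V7_pow : ∀ k : Fin 7, ∀ i : Fin 7, V7 i k = (A7 ^ (k : ℕ)) i 6 := by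
  suffices h : ∀ n, ∀ hn : n < 7, ∀ i, V7 i ⟨n, hn⟩ = (A7 ^ n) i 6 from fun k => h k k.2
  intro n
  induction n with
  | zero =>
    intro _ i
    have h := (V7_step i).1
    generalize A7 = A, V7 = V at h ⊢
    rw [pow_zero, Matrix.one_apply]
    exact h
  | succ n ih =>
    intro hn i
    have h := (V7_step i).2 ⟨n, by omega⟩ ⟨n + 1, hn⟩ rfl
    generalize A7 = A, V7 = V at h ih ⊢
    rw [h, pow_succ', Matrix.mul_apply]
    exact Finset.sum_congr rfl fun m _ => by rw [ih]

theorem corner_injective : Function.Injective corner := by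
  haveI := h5_simple
  have hker : ∀ h, corner h = 1 → h = 1 := by
    let f : H5 →* (Matrix (Fin 7) (Fin 7) (ZMod 5))ˣ := corner.toHomUnits
    intro h hh
    have hm : h ∈ f.ker := Units.ext hh
    rcases (MonoidHom.normal_ker f).eq_bot_or_eq_top with hb | ht
    · rw [hb] at hm; exact Subgroup.mem_bot.1 hm
    · exfalso
      have h1 : a5 ∈ f.ker := ht.ge (Subgroup.mem_top a5)
      have h2 : corner a5 = 1 := congrArg Units.val (f.mem_ker.1 h1)
      exact A7_ne (corner_a5.symm.trans h2)
  intro g h e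
  refine inv_mul_eq_one.1 (hker _ ?_)
  rw [map_mul, ← e, ← map_mul, inv_mul_cancel, map_one]

/-- what commutes with a matrix having a cyclic vector is a polynomial in it -/
theorem eq_aeval_of_cyclic {K : Type} [CommRing K] {A V W : Matrix (Fin 7) (Fin 7) K}
    (hVW : V * W = 1) (hV7 : ∀ k : Fin 7, ∀ i : Fin 7, V i k = (A ^ (k : ℕ)) i 6)
    {X : Matrix (Fin 7) (Fin 7) K} (hX : Commute X A) : ∃ f : K[X], X = aeval A f := by
  let c : Fin 7 → K := W.mulVec fun i => X i 6
  let f : K[X] := ∑ k : Fin 7, C (c k) * Polynomial.X ^ (k : ℕ)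
  refine ⟨f, ?_⟩
  have hcol : ∀ i, (aeval A f) i 6 = X i 6 := by
    intro i
    have e : (aeval A f) i 6 = (V.mulVec c) i := by
      simp only [f]
      rw [map_sum]
      simp only [Matrix.sum_apply, Matrix.mulVec, dotProduct]
      refine Finset.sum_congr rfl fun k _ => ?_
      rw [map_mul, aeval_C, map_pow, aeval_X, ← Algebra.smul_def, Matrix.smul_apply, smul_eq_mul, ← hV7, mul_comm]
    rw [e, Matrix.mulVec_mulVec, hVW, Matrix.one_mulVec]
  have hc : Commute (aeval A f) A := by
    rw [← aeval_X A (R := K)]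
    simp only [aeval_X]
    have := (Commute.all f Polynomial.X).map (aeval A)
    rwa [aeval_X] at this
  have hD : ∀ (n : ℕ), (X - aeval A f) * A ^ n = A ^ n * (X - aeval A f) := fun n =>
    ((hX.sub_left hc).pow_right n).eq
  have hV : (X - aeval A f) * V = 0 := by
    funext i k
    have h0 : ∀ m, (X - aeval A f) m 6 = 0 := fun m => by rw [Matrix.sub_apply, hcol, sub_self]
    rw [Matrix.mul_apply, Finset.sum_congr rfl (fun m _ => by rw [hV7 k m]), ← Matrix.mul_apply, hD,
      Matrix.mul_apply]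
    exact Finset.sum_eq_zero fun m _ => by rw [h0, mul_zero]
  have := congrArg (· * W) hV
  simp only [Matrix.mul_assoc, hVW, Matrix.mul_one, Matrix.zero_mul] at this
  exact sub_eq_zero.1 this

theorem eq_aeval {X : Matrix (Fin 7) (Fin 7) (ZMod 5)} (hX : Commute X A7) : ∃ f : (ZMod 5)[X], X = aeval A7 f :=
  eq_aeval_of_cyclic V7_inv V7_pow hX

theorem aL_pow : aL ^ 31 = 1 := by
  rw [aL, ← evW_rep]
  exact rel_one aId_ok List.mem_cons_self

theorem a5_pow : a5 ^ 31 = 1 := by
  apply toLy_injective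
  rw [map_pow, ← aL_eq, aL_pow, map_one]

theorem a5_ne : a5 ≠ 1 := fun e => A7_ne (by rw [← corner_a5, e, map_one])

theorem orderOf_a5 : orderOf a5 = 31 :=
  haveI : Fact (Nat.Prime 31) := ⟨by norm_num⟩
  orderOf_eq_prime a5_pow a5_ne

theorem orderOf_aL : orderOf aL = 31 := by rw [aL_eq, orderOf_injective toLy toLy_injective, orderOf_a5]

theorem pow_124 {h : H5} (hc : Commute h a5) : h ^ 124 = 1 := by
  haveI : Fact (Nat.Prime 5) := ⟨by norm_num⟩
  obtain ⟨f, hf⟩ := eq_aeval (X := corner h) (by rw [← corner_a5]; exact hc.map corner)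
  have h5 : A7 ^ 125 = A7 := by
    rw [← corner_a5, ← map_pow, show (125 : ℕ) = 31 * 4 + 1 from rfl, pow_succ, pow_mul, a5_pow, one_pow, one_mul]
  have key : f ^ 125 = Polynomial.expand (ZMod 5) 125 f := by
    rw [show (125 : ℕ) = 5 * 5 * 5 from rfl, pow_mul, pow_mul, Polynomial.expand_mul, Polynomial.expand_mul,
      ZMod.expand_card, ZMod.expand_card, ZMod.expand_card]
  have e : corner (h ^ 125) = corner h := by
    rw [map_pow, hf, ← map_pow, key, Polynomial.expand_aeval, h5]
  have e2 := corner_injective e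
  exact mul_right_cancel (b := h) (by rw [← pow_succ, e2, one_mul])

theorem pow_31 {h : H5} (hc : Commute h a5) : h ^ 31 = 1 := by
  rw [← orderOf_dvd_iff_pow_eq_one]
  have hd : orderOf h ∣ 4 * 31 := by rw [orderOf_dvd_iff_pow_eq_one]; exact pow_124 hc
  by_cases h2 : 2 ∣ orderOf h
  · exfalso
    set z := h ^ (orderOf h / 2) with hzdef
    have hz : orderOf z = 2 := orderOf_pow_orderOf_div (orderOf_pos h).ne' h2
    have hm : a5 ∈ Subgroup.centralizer ({z} : Set H5) :=
      Subgroup.mem_centralizer_singleton_iff.2 ((hc.pow_left _).eq).symm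
    have := Subgroup.orderOf_dvd_natCard _ hm
    rw [centralizer_card z hz, orderOf_a5] at this
    norm_num at this
  · refine Nat.Coprime.dvd_of_dvd_mul_left ?_ hd
    have : Nat.Coprime (orderOf h) 2 := ((Nat.prime_two.coprime_iff_not_dvd).2 h2).symm
    exact this.pow_right 2

theorem cent_a5 {h : H5} (hc : Commute h a5) : ∃ i : ℕ, h = a5 ^ i := by
  haveI : Fact (Nat.Prime 31) := ⟨by norm_num⟩
  set S := Subgroup.centralizer ({a5} : Set H5)
  have hmem : ∀ g, g ∈ S ↔ Commute g a5 := fun g => Subgroup.mem_centralizer_singleton_iff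
  have hp : IsPGroup 31 S := fun g => ⟨1, Subtype.ext (by rw [pow_one]; exact pow_31 ((hmem g).1 g.2))⟩
  obtain ⟨n, hn⟩ := IsPGroup.iff_card.1 hp
  have hdvd : Nat.card S ∣ 5859000000 := card_H5.1 ▸ Subgroup.card_subgroup_dvd_card S
  have hn1 : n ≤ 1 := by
    by_contra h1
    have : 31 ^ 2 ∣ 5859000000 := (pow_dvd_pow 31 (by omega)).trans (hn ▸ hdvd)
    norm_num at this
  have hle : Subgroup.zpowers a5 ≤ S := Subgroup.zpowers_le.2 ((hmem _).2 (Commute.refl _))
  have heq : Subgroup.zpowers a5 = S := Subgroup.eq_of_le_of_card_ge hle (by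
    rw [Nat.card_zpowers, orderOf_a5, hn]
    calc 31 ^ n ≤ 31 ^ 1 := Nat.pow_le_pow_right (by norm_num) hn1
      _ = 31 := pow_one _)
  have : h ∈ Subgroup.zpowers a5 := heq ▸ (hmem h).2 hc
  obtain ⟨i, hi⟩ := (Submonoid.mem_powers_iff _ _).1 (mem_powers_iff_mem_zpowers.2 this)
  exact ⟨i, hi.symm⟩

theorem cent_aL {x : Cfsg.Spor.Ly} (hx : x * aL * x⁻¹ = aL) : ∃ i : ℕ, x = aL ^ i := by
  have hc : toLy a5 * x = x * toLy a5 := by rw [← aL_eq]; exact (mul_inv_eq_iff_eq_mul.1 hx).symm
  have hP : x • P0 = P0 := by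
    by_contra hne
    refine St_not31 hne ?_
    rw [← orderOf_a5]
    refine Subgroup.orderOf_dvd_natCard _ ?_
    show toLy a5 • x • P0 = x • P0
    rw [← mul_smul, hc, mul_smul, toLy_smul_P0]
  obtain ⟨h, rfl⟩ : x ∈ toLy.range := by
    rw [Dce.P0, pBase, MulAction.Quotient.smul_coe, smul_eq_mul, mul_one] at hP
    have := QuotientGroup.eq.1 hP
    rwa [mul_one, inv_mem_iff] at this
  obtain ⟨i, rfl⟩ := cent_a5 (h := h) (toLy_injective (by rw [map_mul, map_mul]; exact hc.symm))
  exact ⟨i, by rw [map_pow, aL_eq]⟩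

end CfsgLib.Presented.Ly.Out
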