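import Mathlib.Data.List.Basic

/-! Generated: words for the automorphisms of the Lyons group. -/
set_option autoImplicit false
set_option maxRecDepth 100000

namespace CfsgLib.Presented.Ly.Out

/-- element of order 31 -/
def wa : List ℕ := [1, 9]

/-- element of order 6 -/
def wb : List ℕ := [4, 8, 1, 4, 9, 0, 3, 1, 8, 5, 0, 8, 3, 0]

/-- its cube -/
def wt : List ℕ := [4, 8, 1, 4, 9, 0, 3, 1, 8, 5, 0, 8, 3, 0, 4, 8, 1, 4, 9, 0, 3, 1, 8, 5, 0, 8, 3, 0, 4, 8, 1, 4, 9, 0, 3, 1, 8, 5, 0, 8, 3, 0]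

/-- its square -/
def wb2 : List ℕ := [4, 8, 1, 4, 9, 0, 3, 1, 8, 5, 0, 8, 3, 0, 4, 8, 1, 4, 9, 0, 3, 1, 8, 5, 0, 8, 3, 0]

/-- elements of G₂(5) centralising it -/
def cent36 : List (List ℕ) := [[],
  [4, 7, 8, 0, 2, 0, 3, 6, 0, 9, 6, 5],
  [5, 9, 3, 5, 6, 5, 8, 6, 4, 6, 5, 0],
  [4, 0, 0, 9, 1, 2, 1, 8, 1, 4, 0, 5],
  [3, 4, 7, 0, 5, 7, 3, 5, 1, 4, 2, 0],
  [9, 5, 2, 1, 5, 1, 4, 4, 7, 8, 3, 1],
  [6, 4, 8, 5, 6, 9, 3, 4, 1, 4, 2, 0],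
  [6, 8, 0, 4, 2, 6, 1, 3, 5, 1, 9, 7],
  [0, 4, 8, 3, 9, 3, 4, 4, 2, 7, 5, 6, 1],
  [5, 1, 8, 1, 5, 9, 5, 3, 8, 2, 0, 4, 7],
  [2, 0, 9, 4, 6, 5, 1, 7, 4, 8, 0, 8, 7],
  [9, 3, 3, 0, 9, 1, 8, 1, 3, 3, 5, 6, 8],
  [9, 0, 4, 2, 8, 5, 2, 6, 9, 0, 9, 0, 9],
  [8, 5, 7, 3, 8, 2, 4, 6, 8, 2, 2, 9, 4],
  [1, 9, 2, 4, 6, 2, 0, 3, 0, 9, 1, 8, 0, 9],
  [5, 9, 0, 5, 1, 8, 0, 2, 5, 1, 1, 9, 4, 1],
  [3, 4, 8, 1, 3, 7, 5, 0, 9, 7, 0, 8, 2, 7],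
  [2, 4, 3, 6, 3, 8, 0, 9, 2, 6, 0, 9, 5, 0],
  [0, 3, 5, 8, 3, 0, 2, 8, 0, 4, 1, 8, 3, 4],
  [4, 7, 9, 5, 8, 7, 0, 2, 0, 4, 7, 0, 8, 7],
  [8, 0, 2, 2, 4, 7, 9, 0, 0, 5, 0, 9, 0, 8, 3],
  [1, 3, 5, 9, 2, 5, 3, 5, 5, 6, 5, 6, 3, 7, 1],
  [1, 3, 3, 1, 6, 9, 1, 1, 2, 2, 5, 7, 5, 7, 9],
  [0, 0, 2, 1, 8, 4, 3, 7, 8, 2, 7, 5, 7, 5, 8],
  [5, 5, 3, 1, 2, 0, 9, 7, 1, 5, 9, 7, 5, 7, 4],
  [2, 8, 0, 9, 6, 0, 0, 0, 4, 3, 1, 9, 1, 2, 6],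
  [5, 3, 3, 5, 7, 3, 9, 2, 6, 9, 4, 9, 5, 5, 5],
  [4, 0, 9, 1, 9, 1, 4, 8, 2, 6, 2, 8, 6, 8, 5],
  [7, 1, 5, 1, 8, 6, 8, 8, 3, 4, 4, 6, 4, 1, 4],
  [4, 1, 5, 0, 9, 6, 4, 8, 3, 5, 6, 3, 8, 6, 4, 6],
  [3, 8, 2, 6, 1, 4, 4, 6, 8, 1, 2, 1, 4, 6, 9, 0],
  [2, 7, 3, 9, 6, 8, 0, 5, 1, 9, 5, 7, 0, 9, 6, 6],
  [9, 0, 8, 4, 3, 0, 4, 6, 9, 2, 2, 7, 9, 1, 3, 4],
  [7, 4, 6, 3, 0, 3, 6, 9, 3, 8, 5, 9, 6, 0, 2, 4, 2],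
  [2, 1, 6, 4, 3, 5, 0, 8, 0, 9, 3, 9, 7, 5, 1, 3, 1],
  [9, 5, 5, 6, 9, 1, 1, 6, 9, 5, 7, 4, 2, 1, 9, 1, 6]]

/-- their order by keys -/
def cent36Order : List ℕ := [0, 3, 18, 33, 17, 10, 2, 29, 5, 23, 8, 15, 25, 26, 30, 19, 22, 4, 21, 20, 34, 31, 32, 16, 1, 9, 13, 12, 14, 11, 6, 27, 35, 24, 7, 28]

/-- elements centralising the cube -/
def centGens : List (List ℕ) := [[8, 2, 0, 2, 9, 9, 0, 3, 6, 2, 8],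
  [6, 9, 0, 2, 0, 6, 1, 7, 3, 0, 7],
  [9, 6, 5, 8, 3, 6, 1, 5, 2, 6, 6, 4, 4]]

/-- conjugating products -/
def centCls0 : List (List ℕ) := [[1, 0, 2, 1],
  [0, 2, 2, 1, 0, 1, 0],
  [2, 1, 2, 1, 2, 0],
  [2, 1, 2, 1, 0, 2, 0],
  [2, 2, 1, 2, 0],
  [1, 2, 2, 0, 1, 0],
  [2, 2, 2, 2, 1, 0, 1],
  [0, 2, 1, 0],
  [2, 2, 2, 1],
  [2, 1, 2, 1, 0],
  [2, 1, 0, 2],
  [0, 2, 1, 2],
  [2, 2, 0, 1, 2, 2, 0],
  [0, 1, 2, 0, 1],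
  [2, 0, 2, 0, 1, 0],
  [1, 2, 1, 0, 2, 0],
  [0, 2, 1, 0, 1, 2, 1, 0],
  [0, 2, 2, 1, 0],
  [1, 0, 2, 0, 2, 2],
  [0, 1, 0, 2, 1, 0, 2, 0],
  [0, 2, 0, 2, 0, 2],
  [2, 2, 2, 1, 0, 1],
  [0, 1, 0, 1],
  [0, 1, 2],
  [0, 2, 2, 0, 2, 0, 2],
  [0, 2, 2, 0, 2, 2],
  [1, 2, 2, 0, 2],
  [0, 1, 0],
  [2, 2, 0, 1, 2, 1],
  [1, 0, 2, 1, 2, 1, 0, 1],
  [2, 0, 2, 0, 2, 2],
  [0, 1, 2, 2, 1, 2, 0],
  [1, 2, 2, 2],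
  [2, 0],
  [0, 2, 2, 2],
  [0, 2],
  [2, 1, 0, 2, 0, 2, 0, 1],
  [1, 0, 2],
  [0, 1, 0, 2, 2, 1, 0, 1],
  [2, 1, 2, 1, 2, 1]]

/-- keys of the conjugates -/
def centKeys0 : List ℕ := [622703, 656995, 1838441, 1872714, 3244036, 4098930, 4426644, 4559581, 4719378, 5212916, 7145323, 8006894, 8196002, 12030035, 14160269, 14162971, 18880468, 19806097, 22625040, 24228966, 33604441, 35360470, 36606094, 36619297, 40976176, 46117714, 47554442, 49820427, 50613268, 51290900, 53220976, 64293206, 64850031, 65219367, 67482794, 70459265, 73666979, 75369199, 75802858, 77206468]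

/-- conjugating products -/
def centCls1 : List (List ℕ) := [[1, 2, 0, 2, 2],
  [0, 1, 2, 2, 1],
  [2, 1, 0, 2, 0],
  [0, 2, 0],
  [2, 1, 2, 2, 1, 0],
  [1, 2, 2, 0, 1],
  [0, 1, 0, 1, 2, 2, 2, 0],
  [1, 2, 2, 0],
  [2, 0, 1, 2, 1, 2, 2],
  [0, 1, 2, 1, 2],
  [2, 1, 0, 2, 1],
  [0, 1, 2, 0, 1, 0, 1],
  [2, 0, 2, 0],
  [2, 2, 2],
  [0, 1, 2, 2, 1, 2, 1],
  [1, 2, 1],
  [2, 0, 1, 0],
  [0, 1, 2, 1, 2, 2, 0],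
  [1, 0, 1, 2, 2, 2, 0],
  [0, 2, 0, 2, 2, 2],
  [2, 1, 0, 1, 2, 1, 0],
  [1, 0, 1, 2, 2, 0, 1],
  [0, 2, 0, 1, 0],
  [1, 2, 2, 1, 2, 1],
  [1, 0, 2, 2, 1, 0, 1],
  [1, 2, 0, 2],
  [2, 0, 2, 1, 0, 2],
  [1, 0, 2, 2, 2, 0, 2, 0],
  [2, 1, 0, 1, 0],
  [0, 2, 1, 2, 1, 2, 1],
  [1, 2, 2, 2, 2, 2, 0],
  [0, 2, 0, 2, 2, 1, 0],
  [1, 0, 1, 2, 1, 0, 2, 0],
  [1, 0, 2, 2, 1],
  [1, 0, 1, 0, 1, 2, 1],
  [1, 2, 2, 2, 2, 0, 1, 0],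
  [1, 0, 1, 2, 1, 0, 1, 0],
  [1, 0, 2, 2, 2, 1],
  [2, 0, 2, 1, 2],
  [2, 2, 2, 1, 0, 2]]

/-- keys of the conjugates -/
def centKeys1 : List ℕ := [82495530, 85932384, 89470335, 96672921, 98616511, 98865517, 98877647, 101630460, 113165116, 114904005, 116606590, 118162743, 120828553, 122431888, 126045068, 127379058, 127509358, 129772864, 130323089, 130464506, 138264460, 138885452, 139605145, 141663374, 142184764, 143606627, 144755358, 150615851, 151301839, 152452050, 154796842, 154835999, 156677996, 160512016, 160799228, 162382100, 165195543, 166414192, 167248661, 167478602]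

/-- conjugating products -/
def centCls2 : List (List ℕ) := [[0, 2, 1, 2, 2],
  [1, 2, 2, 2, 2],
  [2, 2, 2, 0, 2, 0, 1],
  [2, 1, 2, 2, 2, 2, 0],
  [1, 2, 0, 1, 0, 2],
  [1, 2, 0, 2, 1, 0, 2],
  [1, 0, 2, 0, 2, 0, 1],
  [1, 0, 1, 0, 2],
  [0, 2, 0, 2, 2, 1],
  [2, 2, 1, 2, 0, 1],
  [1, 2, 1, 2],
  [2, 2, 1, 0, 1],
  [2, 0, 1, 2, 0],
  [2, 2, 1, 2, 2, 0],
  [0, 2, 1, 2, 0, 2],
  [2, 0, 1],
  [0, 2, 1, 0, 2],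
  [0, 1, 0, 2, 1, 2, 0],
  [0, 2, 1, 2, 2, 0, 1],
  [0, 1, 2, 1, 2, 0],
  [2, 1, 2, 0, 2],
  [2, 0, 2, 2, 1, 2, 1],
  [2, 1, 0, 2, 1, 0, 2, 0],
  [2, 0, 2, 1, 2, 1, 0],
  [1, 0, 1],
  [2, 2, 1, 0, 1, 0],
  [1, 2, 0, 1, 2],
  [2, 2, 1, 2, 2],
  [2, 2, 1, 2, 0, 2],
  [0, 2, 2],
  [2, 1, 2, 0, 2, 0, 1],
  [0, 2, 2, 2, 1],
  [2, 1],
  [2, 0, 2, 2, 2, 1],
  [1, 0, 1, 2, 2, 1],
  [2, 0, 2],
  [2, 0, 2, 1, 2, 0, 2],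
  [0, 2, 0, 2, 2],
  [0, 2, 0, 1],
  [2, 1, 2, 0, 1, 0, 2]]

/-- keys of the conjugates -/
def centKeys2 : List ℕ := [168495128, 168500259, 168794107, 169528394, 169620949, 172967874, 173450665, 173454587, 178359206, 178557585, 178701311, 180887317, 181709262, 181840173, 185347322, 185665508, 186266958, 190787619, 191234547, 192293073, 193834395, 194589823, 197085383, 197769623, 198291313, 200913067, 204160414, 206551417, 206575820, 206933652, 206975755, 208377376, 209439764, 210993563, 211598644, 211625831, 212764379, 214368788, 216548600, 217129457]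

/-- conjugating products -/
def centCls3 : List (List ℕ) := [[1, 2, 1, 0, 1, 0, 1],
  [0, 2, 1, 2, 1, 0],
  [1, 2, 2, 0, 1, 2, 0],
  [0, 1, 0, 1, 2, 1, 0],
  [2, 2, 2, 0, 2, 0],
  [2, 2, 2, 0, 2, 0, 2],
  [1, 2, 0, 1, 0, 1, 0],
  [1, 2, 1, 0, 1],
  [2, 2, 0, 2, 1, 0],
  [2, 0, 2, 1, 2, 1],
  [1, 0, 1, 2, 1, 2, 0],
  [2, 0, 2, 0, 1, 0, 1, 0],
  [1, 0, 1, 2, 0, 1],
  [1, 0, 2, 1, 2, 0],
  [2, 2, 1, 0, 1, 2, 0, 1],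
  [0, 2, 2, 2, 2, 0],
  [0, 1, 2, 2, 2, 1],
  [2, 0, 2, 2, 2, 0, 1],
  [1, 2, 0, 2, 2, 1],
  [2, 2, 2, 1, 2, 0, 1],
  [1, 2, 2, 0, 1, 0, 1, 0],
  [0, 2, 2, 1, 2, 0],
  [2, 2, 2, 2, 0, 1, 0],
  [1, 2, 0, 1, 0, 1],
  [0, 2, 0, 2, 0, 1],
  [0, 1, 2, 1, 0, 2],
  [2, 2, 0, 1, 0, 2],
  [2, 2, 0],
  [0, 1, 2, 0, 1, 0],
  [0, 1, 2, 2],
  [1, 0, 2, 2],
  [1, 2, 2],
  [1, 0, 1, 2],
  [2, 2, 2, 0, 2, 2],
  [1, 0, 1, 2, 1, 0],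
  [2, 2, 1, 2, 1, 0, 1, 0],
  [2, 0, 2, 0, 2, 1, 0],
  [2, 1, 2, 2, 0, 2],
  [2, 0, 2, 2, 0, 2, 1, 0],
  [1, 0, 2, 0, 2, 2, 1]]

/-- keys of the conjugates -/
def centKeys3 : List ℕ := [224693759, 227544682, 227620901, 227625752, 228495439, 229165225, 232988254, 233383510, 233420866, 237416935, 237549133, 237707608, 238260587, 242035092, 242455414, 242461153, 243598037, 246919276, 246921079, 247214854, 249791222, 251180091, 254086069, 259786724, 261275404, 261371566, 262153740, 262712594, 265102668, 265389563, 266868085, 268286027, 271959143, 272371987, 273989248, 275562231, 277295600, 280437080, 284302367, 288071241]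

/-- conjugating products -/
def centCls4 : List (List ℕ) := [[0, 2, 0, 2],
  [2, 2, 1],
  [0, 1, 0, 2, 1, 0, 1, 0],
  [2, 2, 2, 2, 0, 2, 2],
  [2, 1, 2],
  [1, 0, 1, 0, 2, 0],
  [1, 0, 2, 1, 2, 1],
  [1, 2, 0, 1, 2, 0],
  [2, 1, 2, 2, 0],
  [1, 2, 2, 2, 0],
  [1, 0],
  [1, 2, 2, 1],
  [0, 2, 2, 2, 2, 0, 1],
  [1, 0, 2, 0, 2],
  [2, 1, 0, 2, 2],
  [2, 1, 0, 2, 1, 2, 0],
  [1, 2, 0, 1],
  [2, 0, 2, 1, 2, 2, 0],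
  [0, 2, 0, 1, 2, 1, 0],
  [0, 1, 2, 1, 0, 1],
  [0, 2, 1, 0, 1, 0, 1],
  [1, 0, 2, 1, 0, 2, 0],
  [2, 2, 1, 0, 2],
  [0, 2, 0, 1, 0, 1, 0],
  [1, 2, 1, 0, 2],
  [0, 1, 0, 2, 2, 1],
  [2, 2, 2, 0, 2, 1],
  [0, 1, 2, 2, 0],
  [0, 2, 2, 1, 0, 1],
  [1, 2, 0, 1, 0],
  [2, 0, 2, 0, 2, 0, 1],
  [0, 1, 2, 2, 0, 2, 1],
  [2, 2, 0, 1, 0, 1, 0],
  [1, 2, 0, 2, 0, 2, 1, 0],
  [2, 1, 0, 2, 2, 1],
  [2, 0, 1, 2],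
  [0, 2, 1, 0, 1, 2, 1],
  [2, 2, 2, 2, 0],
  [2, 1, 2, 2, 2, 0],
  [1, 2, 2, 2, 1]]

/-- keys of the conjugates -/
def centKeys4 : List ℕ := [290106409, 295377281, 295776217, 297709968, 297715661, 298338010, 298516905, 301118151, 301376417, 301608331, 302947691, 303045989, 305334372, 305971623, 306451443, 307004611, 307540546, 311134639, 311594680, 311600659, 311770538, 312067840, 312415254, 312550821, 313559265, 313923131, 317233789, 318672964, 321785830, 325297862, 326041796, 326309200, 326744333, 327462236, 328024003, 329368358, 329956207, 331859832, 334898503, 337478842]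

/-- conjugating products -/
def centCls5 : List (List ℕ) := [[1, 0, 1, 0],
  [2, 1, 0],
  [0, 2, 1, 2, 2, 0],
  [1, 2, 0, 2, 1, 2, 1],
  [0, 2, 2, 2, 0, 2, 1],
  [1],
  [2, 0, 2, 2, 2],
  [0, 2, 0, 2, 1, 0],
  [0, 2, 2, 2, 0, 2, 1, 0],
  [0, 1, 0, 1, 0, 2],
  [1, 0, 2, 2, 0, 1, 0],
  [1, 0, 2, 0, 1, 0, 1],
  [2, 2, 1, 2, 1, 2, 0],
  [1, 2, 2, 1, 0, 1, 0],
  [2, 2, 0, 2, 1, 2, 0],
  [0, 1],
  [2, 2, 0, 2, 2],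
  [0, 1, 2, 2, 2, 0],
  [2, 2, 1, 2, 2, 2, 0],
  [1, 2, 2, 2, 0, 1],
  [0, 2, 2, 2, 0, 1],
  [0, 1, 0, 2, 0],
  [2, 1, 2, 2, 0, 1],
  [2, 0, 1, 2, 2, 0, 1],
  [1, 2],
  [2, 1, 0, 1, 0, 2],
  [0, 1, 2, 1, 0],
  [0, 2, 1, 0, 2, 2],
  [2, 0, 2, 2],
  [0, 2, 2, 1, 2, 1],
  [1, 2, 1, 2, 0],
  [0, 1, 2, 0, 2],
  [1, 2, 1, 0],
  [1, 2, 2, 1, 2, 1, 2, 0],
  [0, 1, 0, 1, 2],
  [2, 2, 2, 2, 0, 2, 0],
  [0, 1, 2, 2, 0, 2, 0],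
  [1, 2, 1, 0, 2, 1, 2, 0],
  [2, 2, 1, 0],
  [2, 2, 0, 1, 2, 0]]

/-- keys of the conjugates -/
def centKeys5 : List ℕ := [339280551, 346198231, 349766551, 349966880, 352064703, 356595462, 356849710, 356983170, 358028110, 358037686, 360754526, 368382315, 370640264, 370812998, 375892162, 375994050, 377141059, 377655849, 379269970, 379953848, 381725351, 382087085, 382439618, 383400524, 384274360, 384275490, 384381372, 384413819, 385094778, 386709823, 386710892, 390922498, 391159139, 394213173, 396431957, 397548313, 402106569, 402529766, 406013351, 406520297]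

/-- conjugating products -/
def centCls6 : List (List ℕ) := [[2, 2, 2, 2, 0, 1],
  [0, 2, 1, 0, 1, 0],
  [1, 0, 2, 0, 2, 2, 2],
  [2, 2, 2, 0, 1, 0],
  [1, 2, 2, 0, 2, 1, 0],
  [1, 2, 2, 1, 0],
  [1, 2, 1, 0, 2, 2],
  [1, 2, 1, 2, 2, 1, 0],
  [2, 1, 0, 1, 2, 0, 1],
  [2, 0, 2, 1, 0, 1, 0],
  [0, 1, 2, 1, 0, 2, 0],
  [2, 2, 0, 1, 0],
  [0, 2, 2, 0, 1, 0],
  [1, 2, 1, 2, 0, 1, 0, 2],
  [2, 2, 1, 0, 1, 2, 2],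
  [1, 2, 1, 0, 2, 1],
  [1, 0, 2, 1, 0, 1, 0],
  [1, 2, 1, 2, 2, 0, 2],
  [0, 1, 0, 2],
  [1, 0, 2, 1, 0, 1, 0, 1],
  [2, 0, 1, 0, 1, 0],
  [2, 1, 0, 1, 2, 0, 2],
  [0, 2, 1, 2, 1],
  [0, 2, 1, 2, 1, 0, 2, 0],
  [2, 2, 1, 2, 1, 0],
  [1, 0, 2, 0, 2, 1, 0],
  [1, 2, 2, 2, 1, 0, 1],
  [1, 0, 1, 2, 0, 2],
  [0, 1, 2, 1, 2, 2],
  [0, 2, 0, 1, 0, 1],
  [0, 1, 2, 0, 2, 0, 1],
  [2, 0, 2, 2, 2, 0, 1, 0],
  [1, 0, 1, 2, 2],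
  [0, 2, 2, 1, 2, 1, 0],
  [2, 1, 2, 2, 2],
  [0, 2, 2, 1],
  [2, 0, 1, 2, 2, 1, 0],
  [0, 2, 1, 2, 2, 0, 2],
  [2, 2, 2, 1, 2, 0],
  [2, 0, 1, 2, 2, 2]]

/-- keys of the conjugates -/
def centKeys6 : List ℕ := [407255792, 407685839, 408257693, 409418489, 409777788, 409863814, 411025562, 413338252, 414429285, 415321029, 415475875, 416162855, 416358771, 416550376, 417109344, 421211177, 422776899, 423270901, 423793272, 424982312, 426884349, 426941770, 427727853, 429238719, 430261074, 431009963, 431343691, 433098764, 437070651, 438383378, 442111990, 443622365, 444006793, 445287772, 448437732, 448640533, 450316411, 450826709, 454663976, 454732654]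

/-- conjugating products -/
def centCls7 : List (List ℕ) := [[0, 2, 2, 0, 2, 0, 1],
  [2, 2, 2, 2, 0, 2, 1],
  [2, 2, 0, 1, 2, 2],
  [1, 0, 2, 1, 2],
  [2, 1, 0, 1, 2],
  [2, 0, 2, 2, 1, 0, 1, 0],
  [2, 0, 1, 2, 2, 1],
  [1, 2, 0, 1, 2, 1],
  [2, 2, 2, 0],
  [1, 2, 2, 0, 2, 0],
  [1, 2, 2, 2, 2, 0],
  [0, 2, 1, 0, 2, 0],
  [1, 0, 2, 0, 1],
  [0, 2, 2, 2, 2, 2, 0],
  [2, 2, 0, 2, 2, 2, 1],
  [2, 0, 1, 2, 1],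
  [2, 0, 1, 2, 2],
  [1, 2, 0, 2, 1],
  [2, 1, 0, 1, 2, 2],
  [0, 2, 2, 1, 0, 2],
  [1, 2, 1, 2, 2, 0],
  [2, 2, 2, 2, 2, 0],
  [1, 0, 2, 1, 2, 1, 0],
  [2, 0, 2, 1, 2, 2],
  [2, 1, 2, 1, 0, 2, 1],
  [2, 1, 2, 0, 2, 1],
  [2, 2, 2, 1, 2, 2],
  [0, 2, 1, 2, 0],
  [0],
  [0, 1, 2, 0, 1, 2, 1],
  [1, 2, 1, 0, 1, 0],
  [2, 2, 0, 2, 0],
  [0, 2, 2, 0, 1, 2, 2],
  [0, 1, 2, 1, 0, 1, 0],
  [2, 2, 2, 2, 2, 2, 0],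
  [2, 0, 1, 2, 2, 0],
  [0, 1, 2, 1],
  [0, 2, 2, 0, 2, 1, 0],
  [2],
  [2, 2, 0, 1, 0, 1]]

/-- keys of the conjugates -/
def centKeys7 : List ℕ := [457349261, 461253091, 463614335, 463881555, 464239613, 464697506, 465157469, 465214118, 470680277, 471630200, 472074636, 473153766, 477437252, 479411488, 480820049, 482673783, 483410987, 487667109, 487992470, 488474552, 488515108, 488911586, 488942650, 491197367, 492579900, 496055039, 501694735, 501727581, 502083790, 506112626, 506546256, 507654911, 508202206, 509257413, 513313885, 518440063, 519646466, 520178103, 520425230, 521086119]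

/-- conjugating products -/
def centCls8 : List (List ℕ) := [[2, 1, 0, 1, 2, 1],
  [2, 2, 2, 0, 1, 2, 1],
  [1, 0, 2, 0, 1, 2, 1, 0],
  [1, 2, 0, 2, 0, 1],
  [0, 1, 0, 1, 2, 1],
  [0, 1, 2, 2, 2, 2],
  [2, 2, 0, 2, 1],
  [2, 2, 2, 0, 1],
  [1, 2, 2, 0, 2, 1],
  [2, 2, 0, 1],
  [2, 2, 0, 2],
  [1, 0, 2, 2, 2, 2, 0],
  [2, 1, 2, 0],
  [2, 2, 0, 2, 0, 1],
  [2, 1, 2, 2],
  [2, 0, 2, 1],
  [2, 2, 1, 0, 1, 2, 1, 0],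
  [1, 0, 1, 2, 1],
  [2, 0, 1, 0, 1],
  [0, 1, 2, 0],
  [2, 1, 0, 1, 0, 1],
  [0, 1, 2, 0, 2, 1],
  [2, 2, 0, 2, 1, 0, 2, 0],
  [2, 0, 2, 2, 1, 0],
  [1, 0, 2, 1, 2, 2, 2],
  [2, 2, 1, 2, 1, 0, 1],
  [0, 1, 0, 2, 2, 2, 1],
  [2, 1, 0, 1],
  [1, 0, 2, 0],
  [2, 1, 2, 0, 1],
  [2, 2, 2, 2],
  [2, 0, 2, 0, 2],
  [2, 0, 2, 1, 0],
  [0, 2, 2, 0, 1, 2, 0],
  [0, 2, 2, 2, 0, 1, 0],
  [2, 2, 1, 2, 1, 2, 1],
  [1, 2, 1, 0, 1, 2, 1],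
  [2, 0, 2, 2, 1, 2, 0],
  [0, 2, 1],
  [1, 2, 1, 2, 1]]

/-- keys of the conjugates -/
def centKeys8 : List ℕ := [522102981, 522172251, 525023938, 526400822, 526762653, 526851477, 527139534, 527153605, 528877164, 529274543, 531769783, 531806921, 532579997, 533476848, 537738708, 540976521, 542549352, 542776650, 543988289, 547816075, 549005652, 549731091, 552700386, 554440880, 555746009, 557591502, 557855406, 558798665, 562891998, 565070610, 565463262, 566475298, 568404161, 569902146, 571749130, 572437496, 572491191, 573375023, 573392048, 576635590]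

/-- conjugating products -/
def centCls9 : List (List ℕ) := [[2, 1, 2, 2, 0, 2, 1],
  [0, 1, 0, 1, 0],
  [1, 2, 0, 2, 0],
  [2, 1, 2, 0, 2, 2, 1],
  [0, 1, 0, 1, 2, 1, 2, 0],
  [2, 1, 2, 0, 1, 0],
  [1, 2, 1, 2, 1, 0, 2, 1],
  [0, 1, 2, 2, 1, 0],
  [],
  [2, 1, 2, 1],
  [0, 2, 2, 0, 1, 0, 1],
  [1, 2, 2, 1, 2, 0],
  [0, 2, 2, 2, 0, 2, 0],
  [1, 2, 1, 2, 2],
  [2, 2, 1, 2, 1],
  [2, 0, 2, 2, 1],
  [2, 0, 2, 1, 2, 0],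
  [2, 0, 2, 1, 0, 2, 0],
  [1, 0, 2, 1, 0, 2, 2],
  [1, 2, 1, 0, 2, 2, 1],
  [0, 1, 2, 2, 2],
  [2, 2, 2, 0, 2, 1, 0],
  [2, 0, 1, 0, 2],
  [2, 0, 2, 0, 1],
  [0, 2, 1, 2, 2, 2],
  [1, 2, 0],
  [2, 2, 0, 2, 1, 2, 1],
  [2, 1, 2, 1, 0, 1, 0],
  [2, 1, 2, 1, 0, 1],
  [0, 1, 0, 1, 2, 2, 1],
  [1, 2, 2, 2, 1, 2, 2],
  [2, 0, 1, 2, 1, 0],
  [2, 2, 0, 2, 0, 2],
  [0, 2, 1, 0, 1],
  [2, 2],
  [0, 1, 2, 2, 0, 1],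
  [1, 0, 1, 0, 1],
  [1, 2, 0, 2, 1, 0, 1, 0],
  [2, 1, 0, 2, 0, 2, 2],
  [0, 2, 1, 2, 1, 0, 1]]

/-- keys of the conjugates -/
def centKeys9 : List ℕ := [577313213, 578074636, 579312416, 579715669, 579900626, 580586161, 584129646, 585146919, 585538087, 586758809, 589701897, 591169670, 591184849, 591925569, 593474023, 596120304, 597475545, 599294952, 601070479, 603008670, 610901667, 611956046, 614642801, 615452250, 615516502, 617888013, 619915516, 621452087, 622835207, 623218663, 624311752, 625576692, 626074527, 633242543, 633676908, 634069687, 634498148, 636991332, 639317500, 639438317]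

/-- all conjugating products -/
def centCls : List (List ℕ) := centCls0 ++ centCls1 ++ centCls2 ++ centCls3 ++ centCls4 ++ centCls5 ++ centCls6 ++ centCls7 ++ centCls8 ++ centCls9

/-- all keys -/
def centKeys : List ℕ := centKeys0 ++ centKeys1 ++ centKeys2 ++ centKeys3 ++ centKeys4 ++ centKeys5 ++ centKeys6 ++ centKeys7 ++ centKeys8 ++ centKeys9

/-- two points separating them -/
def centPts : ℕ × ℕ := (0, 5)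

/-- moves a conjugate of the element into a stabiliser -/
def kp2 : List ℕ := [7, 9, 4, 7, 5, 8, 4, 7, 3, 3, 4, 9, 7, 0, 4, 4]

/-- correction -/
def back2 : List ℕ := [2, 2, 5, 5, 3, 3, 4, 0, 0, 2, 2, 2, 2, 1, 4, 9, 1, 3, 5, 5, 9, 1]

/-- the word of the suborbit representative -/
def mid2 : List ℕ := [8, 5, 1, 8, 5, 5, 2, 4, 4, 3]

/-- an element of the centraliser outside G₂(5) -/
def y2 : List ℕ := [7, 9, 4, 7, 5, 8, 4, 7, 3, 3, 4, 9, 7, 0, 4, 4, 10, 8, 5, 1, 8, 5, 5, 2, 4, 4, 3, 10, 0, 8, 4, 4, 2, 0, 8, 5, 0, 3, 3, 3, 3, 1, 1, 5, 2, 2, 4, 4, 3, 3]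

/-- transversal -/
def trans2 : List ℕ := [0, 1]

/-- moves a conjugate of the element into a stabiliser -/
def kp3 : List ℕ := [0, 4, 1, 3, 6, 1, 4, 7, 0, 0, 8, 6, 0]

/-- correction -/
def back3 : List ℕ := [3, 5, 1, 8, 3, 8, 3, 8, 1, 9, 0, 3, 5, 1, 8, 5, 1]

/-- the word of the suborbit representative -/
def mid3 : List ℕ := [4, 8, 3, 0, 3, 0, 8, 0, 8, 2, 0, 2, 4, 2, 2, 1, 2, 4, 2]

/-- an element of the centraliser outside G₂(5) -/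
def y3 : List ℕ := [0, 4, 1, 3, 6, 1, 4, 7, 0, 0, 8, 6, 0, 10, 4, 8, 3, 0, 3, 0, 8, 0, 8, 2, 0, 2, 4, 2, 2, 1, 2, 4, 2, 10, 0, 4, 9, 0, 4, 2, 1, 8, 0, 9, 2, 9, 2, 9, 0, 4, 2]

/-- transversal -/
def trans3 : List ℕ := [0, 1, 2, 3, 5, 8]

/-- relations of the three generators -/
def rels : List (List ℕ × ℕ) := [([2, 1], 3), ([2, 0, 0, 0, 1], 5), ([2, 0], 10)]

/-- the elements acting on `wb` like `y2` -/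
def lcWords : List (List ℕ) :=
  cent36 ++ (trans2.flatMap fun i => cent36.map fun c => cent36.getD i [] ++ y2 ++ c) ++
    (trans3.flatMap fun i => cent36.map fun c => cent36.getD i [] ++ y3 ++ c)

/-- the word of a relation at `a ^ j`, `b`, `x` -/
def killWord (j : ℕ) (x : List ℕ) (r : ℕ) : List ℕ :=
  (List.replicate (rels.getD r ([], 0)).2
    ((rels.getD r ([], 0)).1.flatMap fun i => [(List.replicate j wa).flatten, wb, x].getD i [])).flatten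

end CfsgLib.Presented.Ly.Out
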