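import Cfsg.Agent.Lib.Presented.Ly.Centralizer
import Cfsg.Agent.Lib.Presented.Ly.Out.Data

/-!
Identities and inequalities in the presented Lyons group read from the representation; the action of G₂(5) on the
span of the first seven basis vectors.
-/
set_option autoImplicit false
set_option maxRecDepth 100000

namespace CfsgLib.Presented.Ly.Out

open MatFive

/-- the inverse of a word in the twelve letters -/
def inv12 (w : List ℕ) : List ℕ := (w.map fun x => if x % 2 = 0 then x + 1 else x - 1).reverse

theorem rel_one {ws : List (List ℕ)} (h : checkId 111 LyMat.gens ws = true) {w : List ℕ} (hw : w ∈ ws) :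
    evW evL w = 1 := by
  obtain ⟨hlt, hp⟩ := checkId_spec mat_shape h hw
  refine eq_one_of_mat ?_
  rw [rho_evW fun x hx => (hlt x hx).trans_eq gens_length]
  exact hp

theorem evL_pair {x : ℕ} (hx : x < 12) : evL x * evL (if x % 2 = 0 then x + 1 else x - 1) = 1 := by
  refine eq_one_of_mat ?_
  have hy : (if x % 2 = 0 then x + 1 else x - 1) < 12 := by interval_cases x <;> decide
  rw [map_mul, Units.val_mul, rho_evL hx, rho_evL hy]
  exact mat_pair (by interval_cases x <;> decide)

theorem evW_inv12 : ∀ {w : List ℕ}, (∀ x ∈ w, x < 12) → evW evL (inv12 w) = (evW evL w)⁻¹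
  | [], _ => by simp [inv12]
  | x :: w, hw => by
    have ih := evW_inv12 (w := w) fun y hy => hw y (List.mem_cons_of_mem _ hy)
    have e : inv12 (x :: w) = inv12 w ++ [if x % 2 = 0 then x + 1 else x - 1] := by simp [inv12]
    rw [e, evW_append, ih, show evW evL (x :: w) = evL x * evW evL w from rfl, mul_inv_rev,
      inv_eq_of_mul_eq_one_right (evL_pair (hw x List.mem_cons_self))]
    simp [evW]

theorem evW_eq {ws : List (List ℕ)} (h : checkId 111 LyMat.gens ws = true) {u v : List ℕ}
    (hv : v.all (fun x => Nat.blt x 12) = true) (hm : u ++ inv12 v ∈ ws) : evW evL u = evW evL v := by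
  have e := rel_one h hm
  simp only [List.all_eq_true, Nat.blt_eq] at hv
  rwa [evW_append, evW_inv12 hv, mul_inv_eq_one] at e

theorem evW_sub (ss : List (List ℕ)) : ∀ w : List ℕ,
    evW evL (w.flatMap fun i => ss.getD i []) = (w.map fun i => evW evL (ss.getD i [])).prod
  | [] => rfl
  | i :: w => by rw [List.flatMap_cons, evW_append, evW_sub ss w, List.map_cons, List.prod_cons]

theorem digit_pow (i d : ℕ) : digit (8 ^ i) d = if d = i then 1 else 0 := by
  unfold digit
  rcases Nat.lt_trichotomy d i with h | rfl | h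
  · rw [if_neg h.ne, Nat.pow_div h.le (by norm_num)]
    obtain ⟨k, hk⟩ : ∃ k, i - d = k + 1 := ⟨i - d - 1, by omega⟩
    rw [hk, pow_succ, Nat.mul_mod_left]
  · rw [if_pos rfl, Nat.div_self (by positivity)]
  · rw [if_neg h.ne', Nat.div_eq_of_lt (Nat.pow_lt_pow_right (by norm_num) h)]

theorem ne_one_of_fact {cs : List (List ℕ × ℕ × ℕ)} (h : checkVec 111 LyMat.gens cs = true) {w : List ℕ} {v u : ℕ}
    (hc : (w, v, u) ∈ cs) {d : ℕ} (hd : d < 111) (hne : digit v d % 5 ≠ digit u d % 5) : evW evL w ≠ 1 := by
  intro e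
  have h1 := rho_vec h hc
  rw [e, map_one, Units.val_one, Matrix.one_mulVec] at h1
  exact hne ((ZMod.natCast_eq_natCast_iff' _ _ 5).1 (congrFun h1 ⟨d, hd⟩))

/-- one of the first seven coordinates -/
def emb (i : Fin 7) : Fin 111 := ⟨i, lt_trans i.2 (by norm_num)⟩

/-- the action on the span of the first seven basis vectors -/
noncomputable def corner : H5 →* Matrix (Fin 7) (Fin 7) (ZMod 5) where
  toFun h := Matrix.of fun i j => (rho (toLy h)).val (emb i) (emb j)
  map_one' := by
    funext i j
    rw [Matrix.of_apply, map_one, map_one, Units.val_one]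
    by_cases hij : i = j
    · subst hij; simp
    · have h1 : (1 : Matrix (Fin 111) (Fin 111) (ZMod 5)) (emb i) (emb j) = 0 :=
        Matrix.one_apply_ne fun e => hij (Fin.ext (congrArg Fin.val e :))
      exact h1.trans (Matrix.one_apply_ne hij).symm
  map_mul' g h := by
    funext i j
    rw [Matrix.of_apply, map_mul, map_mul, Units.val_mul, Matrix.mul_apply, Matrix.mul_apply,
      ← Finset.sum_subset (Finset.subset_univ (Finset.univ.map ⟨emb, fun a b e => Fin.ext (congrArg Fin.val e :)⟩))]
    · rw [Finset.sum_map]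
      exact Finset.sum_congr rfl fun k _ => rfl
    · intro k _ hk
      have h7 : 7 ≤ (k : ℕ) := by
        by_contra h7
        exact hk (Finset.mem_map.2 ⟨⟨k, by omega⟩, Finset.mem_univ _, Fin.ext rfl⟩)
      rw [(toLy_mem_keep h k (emb j) h7 j.2).1, mul_zero]

theorem corner_entry {cs : List (List ℕ × ℕ × ℕ)} (h : checkVec 111 LyMat.gens cs = true) {w : List ℕ}
    (hw : w.all (fun x => Nat.blt x 10) = true) {j : Fin 7} {u : ℕ} (hc : (w, 8 ^ (j : ℕ), u) ∈ cs) (i : Fin 7) :
    corner (evW ev w) i j = (digit u i : ZMod 5) := by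
  have h1 := rho_vec h hc
  simp only [List.all_eq_true, Nat.blt_eq] at hw
  have e : vec 111 (8 ^ (j : ℕ)) = Pi.single (emb j) 1 := by
    funext k
    show ((digit (8 ^ (j : ℕ)) k : ℕ) : ZMod 5) = _
    rw [digit_pow, Pi.single_apply]
    by_cases hk : k = emb j
    · subst hk; simp [emb]
    · have : (k : ℕ) ≠ j := fun e => hk (Fin.ext e)
      simp [hk, this]
  rw [e, Matrix.mulVec_single_one] at h1
  have h2 := congrFun h1 (emb i)
  rw [evL_lt hw] at h2
  exact h2

end CfsgLib.Presented.Ly.Out
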