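import Cfsg.Agent.Lib.Presented.Ly.Out.ClsBase

/-!
Generated: keys of the conjugates.
-/
set_option autoImplicit false
set_option maxRecDepth 100000
set_option Elab.async false

namespace CfsgLib.Presented.Ly.Out

set_option maxHeartbeats 0 in
theorem keys5_ok : keysOK centCls5 centKeys5 = true := by decide +kernel

set_option maxHeartbeats 0 in
theorem keys6_ok : keysOK centCls6 centKeys6 = true := by decide +kernel

set_option maxHeartbeats 0 in
theorem keys7_ok : keysOK centCls7 centKeys7 = true := by decide +kernel

set_option maxHeartbeats 0 in
theorem keys8_ok : keysOK centCls8 centKeys8 = true := by decide +kernel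

set_option maxHeartbeats 0 in
theorem keys9_ok : keysOK centCls9 centKeys9 = true := by decide +kernel

end CfsgLib.Presented.Ly.Out
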