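import Cfsg.Agent.Lib.Presented.Ly.ThreeCent.Local
import Cfsg.Agent.Lib.Presented.Ly.Out.ClsA
import Cfsg.Agent.Lib.Presented.Ly.Out.ClsB
import Cfsg.Agent.Lib.Presented.Ly.CentFix

/-!
The centraliser in G₂(5) of the element of order 6: at most 36 elements, since its square has at least 400 conjugates
in the centraliser of its cube, of order 14400; thirty-six are listed.
-/
set_option autoImplicit false
set_option maxRecDepth 100000
set_option Elab.async false

namespace CfsgLib.Presented.Ly.Out

open ThreeCent (ok key gW clsOK class_bound fixIs fixIs_spec key_eq nodup_of_strictUp strictUp)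

/-- the element of order 6 in G₂(5) -/
noncomputable def b5 : H5 := evW ev wb

theorem wb_ok : ok wb = true ∧ ok wt = true ∧ ok wb2 = true := by decide +kernel

theorem fix_ok : (fixIs wb [] && fixIs wb2 []) = true := by decide +kernel

theorem b_pows : (sameWord wb2 (wb ++ wb) && sameWord wt (wb ++ wb ++ wb) && sameWord (wt ++ wt) []) = true := by
  decide +kernel

theorem b_words : evW ev wb2 = b5 * b5 ∧ evW ev wt = b5 * b5 * b5 ∧ evW ev wt * evW ev wt = 1 := by
  have h := b_pows
  simp only [Bool.and_eq_true] at h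
  obtain ⟨⟨h1, h2⟩, h3⟩ := h
  refine ⟨?_, ?_, ?_⟩
  · rw [sameWord_sound h1, evW_append]; rfl
  · rw [sameWord_sound h2, evW_append, evW_append]; rfl
  · have := sameWord_sound h3; rwa [evW_append, evW_nil] at this

theorem b_fpf (j : Fin ThreeCent.NP) : phi b5 j ≠ j ∧ phi (b5 * b5) j ≠ j := by
  have h := fix_ok
  rw [Bool.and_eq_true] at h
  refine ⟨fun e => List.not_mem_nil ((fixIs_spec h.1 j).1 e), fun e => List.not_mem_nil ((fixIs_spec h.2 j).1 ?_)⟩
  rwa [b_words.1]

theorem b5_six : b5 ^ 6 = 1 := by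
  rw [show b5 ^ 6 = (b5 * b5 * b5) * (b5 * b5 * b5) by simp [pow_succ, mul_assoc], ← b_words.2.1]
  exact b_words.2.2

theorem b5_two : b5 ^ 2 ≠ 1 := fun e => (b_fpf pt0).2 (by rw [← pow_two, e, map_one, Equiv.Perm.one_apply])

theorem b5_three : b5 ^ 3 ≠ 1 := by
  intro e
  have h1 : b5 ^ 2 * b5 = 1 := by rw [← pow_succ]; exact e
  have h2 : key wt 0 5 ≠ key [] 0 5 := by decide +kernel
  refine h2 (key_eq wb_ok.2.1 (by rfl) (by decide +kernel) (by decide +kernel) ?_)
  rw [b_words.2.1, evW_nil, ← pow_two, h1]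

theorem orderOf_t : orderOf (evW ev wt) = 2 :=
  haveI : Fact (Nat.Prime 2) := ⟨Nat.prime_two⟩
  orderOf_eq_prime (by rw [pow_two]; exact b_words.2.2)
    (fun e => b5_three (by rw [b_words.2.1] at e; rw [← e, pow_succ, pow_two]))

theorem gens_comm : (centGens.all fun g => sameWord (g ++ wt) (wt ++ g)) = true := by decide +kernel

theorem keys_all : keysOK centCls centKeys = true :=
  keysOK_append (keysOK_append (keysOK_append (keysOK_append (keysOK_append (keysOK_append (keysOK_append (keysOK_append
    (keysOK_append keys0_ok keys1_ok) keys2_ok) keys3_ok) keys4_ok) keys5_ok) keys6_ok) keys7_ok) keys8_ok) keys9_ok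

theorem keys_up : (strictUp centKeys && Nat.blt centPts.1 ThreeCent.NP && Nat.blt centPts.2 ThreeCent.NP && ok wb2) = true := by
  decide +kernel

theorem cls_ok : clsOK centGens wb2 centCls centPts = true := by
  have h := keys_all
  have h' := keys_up
  simp only [keysOK, Bool.and_eq_true, decide_eq_true_eq] at h h'
  simp only [clsOK, Bool.and_eq_true]
  exact ⟨⟨⟨⟨h'.1.1.2, h'.1.2⟩, h'.2⟩, h.1⟩, by rw [h.2]; exact h'.1.1.1⟩

theorem cls_length : centCls.length = 400 := by decide +kernel

theorem cent_ok : ((cent36.all fun w => ok w && sameWord (w ++ wb) (wb ++ w)) &&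
    strictUp ((cent36Order.map fun i => cent36.getD i []).map fun w => key w centPts.1 centPts.2) &&
    cent36Order.all (fun i => Nat.blt i cent36.length) && Nat.beq cent36Order.length 36 &&
    Nat.blt centPts.1 ThreeCent.NP && Nat.blt centPts.2 ThreeCent.NP) = true := by decide +kernel

theorem cent_card : Nat.card (Subgroup.centralizer ({b5} : Set H5)) ≤ 36 := by
  haveI : Finite H5 := finite_H5
  set S := Subgroup.centralizer ({evW ev wt} : Set H5)
  have hS : wgrp centGens ≤ S := by
    rw [wgrp, Subgroup.closure_le]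
    rintro _ ⟨w, hw, rfl⟩
    rw [SetLike.mem_coe, Subgroup.mem_centralizer_singleton_iff]
    have e := sameWord_sound (List.all_eq_true.1 gens_comm w hw)
    rwa [evW_append, evW_append] at e
  have hb := class_bound hS cls_ok
  rw [cls_length, centralizer_card _ orderOf_t] at hb
  have hle : Subgroup.centralizer ({b5} : Set H5) ≤ S ⊓ Subgroup.centralizer {evW ev wb2} := by
    intro h hh
    have hc : Commute h b5 := Subgroup.mem_centralizer_singleton_iff.1 hh
    refine ⟨Subgroup.mem_centralizer_singleton_iff.2 ?_, Subgroup.mem_centralizer_singleton_iff.2 ?_⟩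
    · rw [b_words.2.1]; exact ((hc.mul_right hc).mul_right hc).eq
    · rw [b_words.1]; exact (hc.mul_right hc).eq
  have := Subgroup.card_le_of_le hle
  omega

theorem cent_comm {w : List ℕ} (hw : w ∈ cent36) : ok w = true ∧ Commute (evW ev w) b5 := by
  have h := cent_ok
  simp only [Bool.and_eq_true, List.all_eq_true] at h
  obtain ⟨h1, h2⟩ := h.1.1.1.1.1 w hw
  refine ⟨h1, ?_⟩
  have e := sameWord_sound h2
  rwa [evW_append, evW_append] at e

theorem cent_b5 {h : H5} (hc : Commute h b5) : ∃ w ∈ cent36, evW ev w = h := by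
  classical
  haveI : Finite H5 := finite_H5
  have hk := cent_ok
  simp only [Bool.and_eq_true, List.all_eq_true, Nat.blt_eq, Nat.beq_eq] at hk
  obtain ⟨⟨⟨⟨⟨-, hup⟩, hlt⟩, hlen⟩, hp1⟩, hp2⟩ := hk
  have hnd := nodup_of_strictUp hup
  let L := cent36Order.map fun i => cent36.getD i []
  have hL : ∀ w ∈ L, w ∈ cent36 := by
    intro w hw
    obtain ⟨i, hi, rfl⟩ := List.mem_map.1 hw
    rw [List.getD_eq_getElem _ _ (hlt i hi)]
    exact List.getElem_mem _
  have hnd2 : (L.map fun w => evW ev w).Nodup := by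
    rw [List.nodup_map_iff_inj_on hnd.of_map]
    intro u hu v hv e
    exact List.inj_on_of_nodup_map hnd hu hv (key_eq (cent_comm (hL u hu)).1 (cent_comm (hL v hv)).1 hp1 hp2 e)
  let F : Finset H5 := (L.map fun w => evW ev w).toFinset
  have hF : F.card = 36 := by
    rw [List.toFinset_card_of_nodup hnd2, List.length_map, List.length_map, hlen]
  have hsub : (F : Set H5) ⊆ (Subgroup.centralizer ({b5} : Set H5) : Set H5) := by
    intro x hx
    obtain ⟨w, hw, rfl⟩ := List.mem_map.1 (List.mem_toFinset.1 hx)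
    exact Subgroup.mem_centralizer_singleton_iff.2 (cent_comm (hL w hw)).2.eq
  have heq : (F : Set H5) = (Subgroup.centralizer ({b5} : Set H5) : Set H5) := by
    refine Set.eq_of_subset_of_ncard_le hsub ?_ (Set.toFinite _)
    rw [Set.ncard_coe_finset, hF, ← Nat.card_coe_set_eq]
    exact cent_card
  have hx : h ∈ (F : Set H5) := heq ▸ Subgroup.mem_centralizer_singleton_iff.2 hc.eq
  obtain ⟨w, hw, e⟩ := List.mem_map.1 (List.mem_toFinset.1 hx)
  exact ⟨w, hL w hw, e⟩

end CfsgLib.Presented.Ly.Out
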