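import Cfsg.Agent.Lib.Presented.Ly.CentCheck
import Cfsg.Agent.Lib.Presented.Ly.ThreeCent.Eval

/-!
The classes of a subgroup with a regular orbit, checked by paths.
-/
set_option autoImplicit false
set_option maxRecDepth 100000

namespace CfsgLib.Presented.Ly.Out

open ThreeCent (maskOf testBit_maskOf)

/-- a path from its code: digits in base eight, shifted by one -/
def unpack : ℕ → ℕ → List ℕ
  | 0, _ => []
  | n + 1, c => if c = 0 then [] else (c % 8 - 1) :: unpack n (c / 8)

/-- the element of an entry -/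
def ePath (e : ℕ) : List ℕ := unpack 16 (e % 2 ^ 48)
/-- the conjugator of an entry -/
def uPath (e : ℕ) : List ℕ := unpack 16 (e / 2 ^ 48 % 2 ^ 48)
/-- the class of an entry -/
def eCls (e : ℕ) : ℕ := e / 2 ^ 96

/-- the entries cover the orbit and conjugate it into the representatives -/
noncomputable def clsOK (n : ℕ) (tbls : List NTree) (i O : ℕ) (cls : List (List ℕ))
    (reps : List (List ℕ × ℕ × ℕ)) : Bool :=
  reps.all (fun r => r.1.all fun g => Nat.blt g n) &&
  cls.all (fun l => l.all fun e =>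
    (ePath e).all (fun g => Nat.blt g n) && (uPath e).all (fun g => Nat.blt g n) && Nat.blt (eCls e) reps.length &&
      Nat.beq (evalPath tbls (ePath e) (evalPath tbls (uPath e) i))
        (evalPath tbls (uPath e) (evalPath tbls (reps.getD (eCls e) ([], 0, 0)).1 i))) &&
  Nat.beq (ThreeCent.orAll (cls.map fun l => maskOf (l.map fun e => evalPath tbls (ePath e) i))) O

theorem pathEl_inj {gens : List (List ℕ)} {tbls : List NTree} {i rounds O n : ℕ} {es : List (ℕ × List ℕ)}
    (hi : i < 19530) (hok : orbitOK LyPerm.rep gens i rounds O = true) (ht : tablesOK gens tbls O es = true)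
    (hO : Nat.beq (bitCount O 19530) n = true) (hcard : Nat.card (wgrp gens) = n)
    {s t : H5} (hs : s ∈ wgrp gens) (hst : t ∈ wgrp gens)
    (h : phi s ⟨i, hi⟩ = phi t ⟨i, hi⟩) : s = t := by
  classical
  have _ := ht
  let i0 : Fin LyPerm.rep.N := ⟨i, hi⟩
  have horb := orbit_eq_of_ok rep_valid hok phi (fun y hy => phi_ev y hy) (H := wgrp gens) rfl hi
  let f : wgrp gens → {j : Fin LyPerm.rep.N // O.testBit j = true} := fun s =>
    ⟨phi (s : H5) i0, (horb _).1 ⟨s, s.2, rfl⟩⟩
  have hsurj : Function.Surjective f := by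
    rintro ⟨j, hj⟩
    obtain ⟨s, hs, he⟩ := (horb j).2 hj
    exact ⟨⟨s, hs⟩, Subtype.ext he⟩
  have hcj : Nat.card {j : Fin LyPerm.rep.N // O.testBit j = true} = n := by
    rw [card_bits, ← Nat.eq_of_beq_eq_true hO]
    rfl
  exact congrArg Subtype.val (((Nat.bijective_iff_surjective_and_card f).2 ⟨hsurj, hcard.trans hcj.symm⟩).1
    (a₁ := ⟨s, hs⟩) (a₂ := ⟨t, hst⟩) (Subtype.ext h))

theorem cls_spec {gens : List (List ℕ)} {tbls : List NTree} {i rounds O n : ℕ} {es : List (ℕ × List ℕ)}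
    {cls : List (List ℕ)} {reps : List (List ℕ × ℕ × ℕ)}
    (hi : i < 19530) (hok : orbitOK LyPerm.rep gens i rounds O = true) (ht : tablesOK gens tbls O es = true)
    (hO : Nat.beq (bitCount O 19530) n = true) (hcard : Nat.card (wgrp gens) = n)
    (hc : clsOK gens.length tbls i O cls reps = true) {s : H5} (hs : s ∈ wgrp gens) :
    ∃ u ∈ wgrp gens, ∃ r ∈ reps, (∀ g ∈ r.1, g < gens.length) ∧ s * u = u * pathEl gens r.1 := by
  simp only [clsOK, Bool.and_eq_true, List.all_eq_true, Nat.blt_eq, Nat.beq_eq] at hc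
  obtain ⟨⟨hreps, hall⟩, hmask⟩ := hc
  set i0 : Fin LyPerm.rep.N := ⟨i, hi⟩
  have horb := orbit_eq_of_ok rep_valid hok phi (fun y hy => phi_ev y hy) (H := wgrp gens) rfl hi
  have hi0 : O.testBit (i0 : ℕ) = true := (horb i0).1 ⟨1, (wgrp gens).one_mem, by simp [i0]⟩
  have hbit := (horb (phi s i0)).1 ⟨s, hs, rfl⟩
  rw [← hmask, ThreeCent.testBit_orAll] at hbit
  obtain ⟨v, hv, hvb⟩ := hbit
  obtain ⟨l, hl, rfl⟩ := List.mem_map.1 hv
  obtain ⟨e, he, hev⟩ := List.mem_map.1 ((testBit_maskOf _ _).1 hvb)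
  obtain ⟨⟨⟨h1, h2⟩, h3⟩, h4⟩ := hall l hl e he
  set r := reps.getD (eCls e) ([], 0, 0) with hr
  have hrm : r ∈ reps := by rw [hr, List.getD_eq_getElem _ _ h3]; exact List.getElem_mem _
  have hlt := hreps r hrm
  have hS : pathEl gens (ePath e) = s := by
    refine pathEl_inj hi hok ht hO hcard (pathEl_mem gens _ h1) hs (Fin.ext ?_)
    rw [← (path_spec hok ht _ h1 i0 hi0).1]
    exact hev
  have hU := path_spec hok ht _ h2 i0 hi0
  have hR := path_spec hok ht _ hlt i0 hi0
  refine ⟨pathEl gens (uPath e), pathEl_mem gens _ h2, r, hrm, hlt,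
    pathEl_inj hi hok ht hO hcard ((wgrp gens).mul_mem hs (pathEl_mem gens _ h2))
      ((wgrp gens).mul_mem (pathEl_mem gens _ h2) (pathEl_mem gens _ hlt)) (Fin.ext ?_)⟩
  rw [map_mul, map_mul, Equiv.Perm.mul_apply, Equiv.Perm.mul_apply]
  have a1 := (path_spec hok ht _ h1 _ hU.2).1
  have a2 := (path_spec hok ht _ h2 _ hR.2).1
  rw [← hU.1, hS] at a1
  rw [← hR.1] at a2
  rw [← a1, ← a2]
  exact h4

theorem pathEl_eq (gens : List (List ℕ)) : ∀ p : List ℕ, pathEl gens p = evW ev (ThreeCent.gW gens p)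
  | [] => rfl
  | g :: p => by
    rw [pathEl, List.map_cons, List.prod_cons, ← pathEl, pathEl_eq gens p]
    exact (evW_append _ _ _).symm

theorem pathEl_append (gens : List (List ℕ)) (p q : List ℕ) : pathEl gens (p ++ q) = pathEl gens p * pathEl gens q := by
  simp [pathEl]

end CfsgLib.Presented.Ly.Out
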