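import Cfsg.Agent.Lib.Presented.Ly.ThreeCent.Eval
import Cfsg.Agent.Lib.Presented.Ly.Out.Data

/-!
The keys of a list of conjugates.
-/
set_option autoImplicit false
set_option maxRecDepth 100000
set_option Elab.async false

namespace CfsgLib.Presented.Ly.Out

open ThreeCent (key gW ok)

/-- the conjugates of the square have the listed keys -/
noncomputable def keysOK (cs : List (List ℕ)) (ks : List ℕ) : Bool :=
  cs.all (fun w => ok (gW centGens w)) &&
    decide (cs.map (fun w => key (gW centGens w ++ wb2 ++ invWord LyH.alphabet (gW centGens w)) centPts.1 centPts.2) = ks)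

theorem keysOK_append {a c : List (List ℕ)} {x y : List ℕ} (h : keysOK a x = true) (h' : keysOK c y = true) :
    keysOK (a ++ c) (x ++ y) = true := by
  simp only [keysOK, Bool.and_eq_true, decide_eq_true_eq, List.all_append] at h h' ⊢
  exact ⟨⟨h.1, h'.1⟩, by rw [List.map_append, h.2, h'.2]⟩

end CfsgLib.Presented.Ly.Out
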