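import Cfsg.Agent.Lib.Presented.Ly.Out.Classes
import Cfsg.Agent.Lib.Presented.Ly.Out.DataS2
import Cfsg.Agent.Lib.Presented.Ly.Out.DataS3
import Cfsg.Agent.Lib.Presented.Ly.Out.DataS4
import Cfsg.Agent.Lib.Presented.Ly.CentFix

/-!
The classes of the three small point stabilisers.
-/
set_option autoImplicit false
set_option maxRecDepth 100000
set_option Elab.async false

namespace CfsgLib.Presented.Ly.Out

open Dce LyOrb LyCent

theorem cls2_ok : clsOK S2_3.length tbls2 16606 orb2_2 cls2 reps2 = true := by decide +kernel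

theorem cls3_ok : clsOK S3_3.length tbls3 9 orb3_1 cls3 reps3 = true := by decide +kernel

theorem cls4_ok : clsOK S4_5.length tbls4 44 orb4_2 cls4 reps4 = true := by decide +kernel

theorem St2_cls {s : H5} (hs : s ∈ St P2) :
    ∃ u ∈ St P2, ∃ r ∈ reps2, (∀ g ∈ r.1, g < S2_3.length) ∧ s * u = u * pathEl S2_3 r.1 := by
  have e := St_eq fix2_3 card_S2 card_St2
  rw [e] at hs ⊢
  exact cls_spec (i := 16606) (rounds := 7) (O := orb2_2) (n := 2880) (es := paths2)
    (by decide) (by decide +kernel) (by decide +kernel) (by decide +kernel) (e ▸ card_St2) cls2_ok hs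

theorem St3_cls {s : H5} (hs : s ∈ St P3) :
    ∃ u ∈ St P3, ∃ r ∈ reps3, (∀ g ∈ r.1, g < S3_3.length) ∧ s * u = u * pathEl S3_3 r.1 := by
  have e := St_eq fix3_3 card_S3 card_St3
  rw [e] at hs ⊢
  exact cls_spec (i := 9) (rounds := 7) (O := orb3_1) (n := 1008) (es := paths3)
    (by decide) (by decide +kernel) (by decide +kernel) (by decide +kernel) (e ▸ card_St3) cls3_ok hs

theorem St4_cls {s : H5} (hs : s ∈ St P4) :
    ∃ u ∈ St P4, ∃ r ∈ reps4, (∀ g ∈ r.1, g < S4_5.length) ∧ s * u = u * pathEl S4_5 r.1 := by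
  have e := St_eq fix4_5 card_S4 card_St4
  rw [e] at hs ⊢
  exact cls_spec (i := 44) (rounds := 5) (O := orb4_2) (n := 6048) (es := paths4)
    (by decide) (by decide +kernel) (by decide +kernel) (by decide +kernel) (e ▸ card_St4) cls4_ok hs

end CfsgLib.Presented.Ly.Out
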