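import Mathlib.Data.List.Basic

/-! Generated: images for the trace of the element of order 6. -/
namespace CfsgLib.Presented.Ly.Out

/-- the images of seven vectors -/
def wbImgs : List ℕ := [0xdb319, 0x11a4d1, 0x606e0, 0xa4609, 0x28cb, 0xc258, 0xa4454]

end CfsgLib.Presented.Ly.Out
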