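import Mathlib.Data.List.Basic

/-! Generated: the transversal moves and the generation certificate. -/
set_option autoImplicit false
set_option maxRecDepth 100000

namespace CfsgLib.Presented.Ly.Out

/-- transversal element and stabiliser path -/
def move2 : List (ℕ × List ℕ) := [(0, []), (1, []), (0, [1, 1, 0, 1, 0, 0, 0]), (1, [0, 0, 0, 0, 1, 1, 0]), (1, [0, 1, 0, 0, 1, 0, 0, 0]), (1, [0, 0, 0, 0, 1, 0]), (1, [1, 0, 1, 1, 0]), (1, [2, 2, 2, 2]), (0, [2, 1, 0, 1, 1, 0, 2, 0]), (1, [0, 1, 1, 2, 2, 1]), (1, [1, 0, 1, 1, 0, 1, 0, 0]), (0, [2, 0, 1, 1, 0, 1, 2, 1, 0]), (0, [1, 0, 1, 0]), (1, [1, 0, 0, 1, 0, 0]), (0, [0, 0, 0, 0, 1, 1, 0]), (0, [1, 0, 1, 1, 0]), (0, [0, 0, 0, 1, 1]), (1, [2, 2, 0, 2, 2, 1, 0]), (0, [0, 1, 1, 2, 2, 1]), (0, [2, 2, 2, 2, 1, 0, 1, 0]), (0,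 [0, 1, 0, 0, 1, 0, 0, 0]), (1, [2, 2, 2, 2, 1, 0, 1, 0]), (1, [2, 1, 0, 1, 1, 0, 2, 0]), (0, [0, 0, 0, 0, 1, 0]), (1, [1, 0, 0]), (1, [1, 0, 1, 0]), (0, [2, 2, 2, 2]), (1, [1, 1, 0, 1, 0, 0, 0]), (0, [1, 0, 0, 1, 0, 0]), (0, [1, 0, 0]), (0, [2, 2, 0, 2, 2, 1, 0]), (1, [2, 0, 1, 1, 0, 1, 2, 1, 0]), (1, [1, 2, 2, 2, 0, 2]), (1, [0, 0, 0, 1, 1]), (0, [1, 0, 1, 1, 0, 1, 0, 0]), (0, [1, 2, 2, 2, 0, 2])]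

/-- transversal element and stabiliser path -/
def move3 : List (ℕ × List ℕ) := [(0, []), (1, []), (2, []), (3, []), (3, [0, 2, 0, 2, 0, 0, 0, 2]), (5, []), (3, [2, 0, 0, 0]), (1, [0, 2, 0, 2, 0, 0, 0, 2]), (8, []), (5, [0, 2, 0, 0, 0, 0]), (3, [2, 1, 2, 2, 2, 1]), (8, [2, 0, 0, 0]), (2, [0, 2, 0, 0, 0, 0]), (1, [2, 1, 2, 2, 2, 1]), (8, [2, 1, 2, 2, 2, 1]), (8, [0, 2, 0, 2, 0, 0, 0, 2]), (0, [0, 2, 0, 0, 0, 0]), (5, [0, 2, 0, 2, 0, 0, 0, 2]), (2, [0, 2, 0, 2, 0, 0, 0, 2]), (2, [2, 1, 2, 2, 2, 1]), (8, [0, 2, 0, 0, 0, 0]), (5, [2, 2, 1, 2, 1, 2]), (3, [2, 2, 1, 2, 1, 2]), (2, [2, 2, 1, 2, 1, 2]), (1, [2, 0, 0, 0]), (5, [2, 0, 0, 0]), (0, [0, 2, 0, 2, 0, 0, 0, 2]), (5, [2, 1, 2, 2, 2, 1]), (0, [2, 1, 2, 2, 2, 1]), (0, [2, 0, 0, 0]), (2, [2, 0, 0, 0]), (3, [0, 2, 0, 0,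 0, 0]), (1, [2, 2, 1, 2, 1, 2]), (1, [0, 2, 0, 0, 0, 0]), (8, [2, 2, 1, 2, 1, 2]), (0, [2, 2, 1, 2, 1, 2])]

/-- products of the three elements and inverses lying in G₂(5) -/
def schExprs : List (List ℕ) := [
  [5, 1, 1, 1, 5, 1, 1, 1, 4, 1, 1, 1, 2, 0, 0, 4, 0, 0, 0, 5],
  [5, 0, 0, 0, 5, 0, 0, 0, 4, 1, 1, 2, 1, 1, 1, 4, 1, 1, 1, 5],
  [4, 1, 1, 1, 3, 4, 0, 0, 0, 4, 1, 1, 2, 1, 5, 1, 1, 1, 5]]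

/-- their values -/
def schWords : List (List ℕ) := [
  [0, 0, 6, 8, 7, 4, 8, 5, 6, 4, 3, 9, 3, 0],
  [3, 6, 4, 7, 4, 8, 0, 9, 2, 1],
  [1, 1, 8, 0, 6, 8, 3, 5, 7, 1, 5, 0]]

/-- the five generators in those and the two elements -/
def genExprs : List (List ℕ) := [
  [0, 0, 0, 0, 0, 5, 0, 0, 3, 4, 0, 4, 0, 0, 0, 0, 4, 0, 0],
  [0, 5, 0, 5, 0, 0, 2, 1, 5, 1, 3, 1, 9],
  [3, 0, 7, 9, 1, 1, 1, 8, 2, 1, 1],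
  [0, 0, 6, 0, 2, 1, 5, 1, 5, 1, 2, 4, 0, 0, 0, 0, 0, 0],
  [0, 0, 0, 0, 0, 5, 0, 0, 3, 4, 0, 4, 0, 0, 0, 0, 4, 0, 0, 0]]

/-- a path to the first suborbit representative -/
def zPath : List ℕ := [4, 8, 4, 4, 0, 8, 2, 0, 8]

/-- a product moving the base point to that suborbit -/
def zExpr : List ℕ := [4, 0, 0, 0, 5]

/-- the correction -/
def zWord : List ℕ := [3, 5, 2, 0, 7, 5, 1, 9, 0, 4, 7, 2, 2]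

end CfsgLib.Presented.Ly.Out
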