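import Cfsg.Agent.Lib.Presented.Ly.Out.CentB
import Cfsg.Agent.Lib.Presented.Ly.Out.ClsCert
import Cfsg.Agent.Lib.Presented.Ly.Out.Basic
import Cfsg.Agent.Lib.Presented.Ly.Out.DataB

/-!
The fixed cosets of the element of order 6.
-/
set_option autoImplicit false
set_option maxRecDepth 100000
set_option Elab.async false

namespace CfsgLib.Presented.Ly.Out

open MatFive Dce
open ThreeCent (ok gW img)

/-- the images for a trace -/
noncomputable def trSum (us : List ℕ) : ℕ := ((List.range 7).map fun j => digit (us.getD j 0) j).sum % 5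

/-- the facts for a trace -/
def trFacts (w : List ℕ) (us : List ℕ) : List (List ℕ × ℕ × ℕ) := (List.range 7).map fun j => (w, 8 ^ j, us.getD j 0)

theorem trace_of_facts {w us : List ℕ} (hw : w.all (fun x => Nat.blt x 10) = true)
    (h : checkVec 111 LyMat.gens (trFacts w us) = true) :
    Matrix.trace (corner (evW ev w)) = (trSum us : ZMod 5) := by
  rw [Matrix.trace, trSum, ← ZMod.natCast_mod, Nat.mod_mod, ZMod.natCast_mod]
  have e : ∀ j : Fin 7, Matrix.diag (corner (evW ev w)) j = ((digit (us.getD (j : ℕ) 0) (j : ℕ) : ℕ) : ZMod 5) := fun j =>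
    corner_entry h hw (List.mem_map.2 ⟨j, List.mem_range.2 j.2, rfl⟩) j
  rw [Finset.sum_congr rfl fun j _ => e j, ← Nat.cast_sum,
    Fin.sum_univ_eq_sum_range fun j => digit (us.getD j 0) j]
  rfl

/-- why a representative is or is not the conjugated element -/
noncomputable def kindOK (gens : List (List ℕ)) (kp tr : List ℕ) (r : List ℕ × ℕ × ℕ) : Bool :=
  cond (Nat.beq r.2.1 0) (ok (gW gens r.1) && !Nat.beq (img (gW gens (List.replicate 6 r.1).flatten) r.2.2) r.2.2 &&
    Nat.blt r.2.2 ThreeCent.NP && ok (gW gens (List.replicate 6 r.1).flatten))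
  (cond (Nat.beq r.2.1 1) (sameWord (gW gens r.1 ++ gW gens r.1) [])
  (cond (Nat.beq r.2.1 2) (sameWord (gW gens r.1 ++ gW gens r.1 ++ gW gens r.1) [])
  (cond (Nat.beq r.2.1 3) (ok (gW gens r.1 ++ gW gens r.1) && Nat.blt r.2.2 ThreeCent.NP &&
    Nat.beq (img (gW gens r.1 ++ gW gens r.1) r.2.2) r.2.2)
  (cond (Nat.beq r.2.1 4) (sameWord (kp ++ gW gens r.1) (wb ++ kp))
  ((gW gens r.1).all (fun x => Nat.blt x 10) && checkVec 111 LyMat.gens (trFacts (gW gens r.1) tr) &&
    !Nat.beq (trSum tr) (trSum wbImgs))))))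

theorem wbImgs_ok : checkVec 111 LyMat.gens (trFacts wb wbImgs) = true := by decide +kernel

theorem kind_spec {gens : List (List ℕ)} {kp tr : List ℕ} {r : List ℕ × ℕ × ℕ}
    (h : kindOK gens kp tr r = true) {v : H5} (hv : v⁻¹ * b5 * v = pathEl gens r.1) :
    Nat.beq r.2.1 4 = true ∧ Commute (v * (evW ev kp)⁻¹) b5 := by
  have hpow : ∀ n : ℕ, v⁻¹ * b5 ^ n * v = pathEl gens r.1 ^ n := by
    intro n
    induction n with
    | zero => simp
    | succ n ih => rw [pow_succ, pow_succ, ← ih, ← hv]; group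
  have hinj : ∀ {x : H5}, v⁻¹ * x * v = 1 → x = 1 := by
    intro x hx
    calc x = v * (v⁻¹ * x * v) * v⁻¹ := by group
      _ = 1 := by rw [hx]; group
  rw [pathEl_eq] at hv hpow
  unfold kindOK at h
  cases h0 : Nat.beq r.2.1 0 <;> simp only [h0, cond_true, cond_false] at h
  swap
  · exfalso
    simp only [Bool.and_eq_true, Bool.not_eq_true', Nat.blt_eq] at h
    obtain ⟨⟨⟨-, hne⟩, hlt⟩, hok⟩ := h
    have e : evW ev (gW gens (List.replicate 6 r.1).flatten) = 1 := by
      rw [← pathEl_eq]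
      simp only [List.replicate, List.flatten_cons, List.flatten_nil, pathEl_append, List.append_nil]
      rw [pathEl_eq, show ∀ x : H5, x * (x * (x * (x * (x * x)))) = x ^ 6 from fun x => by simp [pow_succ, mul_assoc],
        ← hpow 6, b5_six]
      group
    have h1 := ThreeCent.phi_img hok ⟨r.2.2, hlt⟩
    rw [e, map_one, Equiv.Perm.one_apply] at h1
    rw [← h1, Nat.beq_refl] at hne
    exact Bool.noConfusion hne
  cases h1 : Nat.beq r.2.1 1 <;> simp only [h1, cond_true, cond_false] at h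
  swap
  · exfalso
    have e := sameWord_sound h
    rw [evW_append, evW_nil, ← pow_two, ← hpow 2] at e
    exact b5_two (hinj e)
  cases h2 : Nat.beq r.2.1 2 <;> simp only [h2, cond_true, cond_false] at h
  swap
  · exfalso
    have e := sameWord_sound h
    rw [evW_append, evW_append, evW_nil, ← pow_three', ← hpow 3] at e
    exact b5_three (hinj e)
  cases h3 : Nat.beq r.2.1 3 <;> simp only [h3, cond_true, cond_false] at h
  swap
  · exfalso
    simp only [Bool.and_eq_true, Nat.blt_eq, Nat.beq_eq] at h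
    obtain ⟨⟨hok, hlt⟩, he⟩ := h
    let q : Fin ThreeCent.NP := ⟨r.2.2, hlt⟩
    have hq : phi (pathEl gens r.1 ^ 2) q = q := by
      apply Fin.ext
      rw [pathEl_eq, pow_two, ← evW_append, ThreeCent.phi_img hok]
      exact he
    rw [pathEl_eq, ← hpow 2, map_mul, map_mul, Equiv.Perm.mul_apply, Equiv.Perm.mul_apply, map_inv,
      Equiv.Perm.inv_def, Equiv.symm_apply_eq] at hq
    exact (b_fpf (phi v q)).2 (by rw [← pow_two]; exact hq)
  cases h4 : Nat.beq r.2.1 4 <;> simp only [h4, cond_true, cond_false] at h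
  · exfalso
    simp only [Bool.and_eq_true, Bool.not_eq_true'] at h
    obtain ⟨⟨hok, hv'⟩, hne⟩ := h
    have h5 := congrArg (fun X => Matrix.trace (corner X)) hv
    rw [map_mul, map_mul, Matrix.trace_mul_cycle, ← map_mul, ← map_mul, mul_inv_cancel, one_mul,
      trace_of_facts hok hv'] at h5
    have hb := trace_of_facts (w := wb) (by decide +kernel) wbImgs_ok
    rw [show evW ev wb = b5 from rfl] at hb
    rw [hb] at h5
    have hlt : ∀ us, trSum us < 5 := fun us => Nat.mod_lt _ (by norm_num)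
    have := (ZMod.natCast_eq_natCast_iff' _ _ 5).1 h5
    rw [Nat.mod_eq_of_lt (hlt _), Nat.mod_eq_of_lt (hlt _)] at this
    rw [this, Nat.beq_refl] at hne
    exact Bool.noConfusion hne
  · refine ⟨rfl, ?_⟩
    have e := sameWord_sound h
    rw [evW_append, evW_append, ← hv, show evW ev wb = b5 from rfl] at e
    show v * (evW ev kp)⁻¹ * b5 = b5 * (v * (evW ev kp)⁻¹)
    calc v * (evW ev kp)⁻¹ * b5 = v * (evW ev kp)⁻¹ * (b5 * evW ev kp) * (evW ev kp)⁻¹ := by group
      _ = v * (evW ev kp)⁻¹ * (evW ev kp * (v⁻¹ * b5 * v)) * (evW ev kp)⁻¹ := by rw [e]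
      _ = b5 * (v * (evW ev kp)⁻¹) := by group

theorem kinds2 : (reps2.all fun r => kindOK S2_3 kp2 trImgs2 r) = true := by decide +kernel

theorem kinds3 : (reps3.all fun r => kindOK S3_3 kp3 trImgs3 r) = true := by decide +kernel

theorem kinds4 : (reps4.all fun r => kindOK S4_5 [] trImgs4 r && !Nat.beq r.2.1 4) = true := by decide +kernel

theorem K_fpf {g : H5} (h : g⁻¹ * b5 * g ∈ K) : False := by
  have hf := (stab_eq _).2 h
  rw [map_mul, map_mul, Equiv.Perm.mul_apply, Equiv.Perm.mul_apply, map_inv, Equiv.Perm.inv_def,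
    Equiv.symm_apply_eq] at hf
  exact (b_fpf (phi g pt0)).1 hf

theorem conj_mem_St {P : XLy} {g : H5} (h : toLy b5 • toLy g • P = toLy g • P) : g⁻¹ * b5 * g ∈ St P := by
  rw [mem_St, map_mul, map_mul, mul_smul, mul_smul, h, map_inv, inv_smul_smul]

theorem conj_of {g u R : H5} (h : g⁻¹ * b5 * g * u = u * R) : (g * u)⁻¹ * b5 * (g * u) = R := by
  calc (g * u)⁻¹ * b5 * (g * u) = u⁻¹ * (g⁻¹ * b5 * g * u) := by group
    _ = R := by rw [h, inv_mul_cancel_left]

/-- A fixed coset is the base one or one of two orbits of the centraliser. -/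
theorem fix_b {q : XLy} (hq : toLy b5 • q = q) :
    q = P0 ∨ ∃ c : H5, Commute c b5 ∧
      (q = toLy (c * evW ev kp2) • P2 ∨ q = toLy (c * evW ev kp3) • P3) := by
  have hmem : q ∈ (Set.univ : Set XLy) := trivial
  rw [univ_eq] at hmem
  rcases hmem with (((h | ⟨g, rfl⟩) | ⟨g, rfl⟩) | ⟨g, rfl⟩) | ⟨g, rfl⟩
  · exact Or.inl h
  · exact (K_fpf (g := g) ((fix_P1_iff _).1 (mem_St.1 (conj_mem_St hq)))).elim
  · obtain ⟨u, hu, r, hr, hlt, he⟩ := St2_cls (conj_mem_St hq)
    refine Or.inr ⟨_, (kind_spec (List.all_eq_true.1 kinds2 r hr) (conj_of he)).2, Or.inl ?_⟩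
    rw [inv_mul_cancel_right, map_mul, mul_smul, mem_St.1 hu]
  · obtain ⟨u, hu, r, hr, hlt, he⟩ := St3_cls (conj_mem_St hq)
    refine Or.inr ⟨_, (kind_spec (List.all_eq_true.1 kinds3 r hr) (conj_of he)).2, Or.inr ?_⟩
    rw [inv_mul_cancel_right, map_mul, mul_smul, mem_St.1 hu]
  · exfalso
    obtain ⟨u, hu, r, hr, hlt, he⟩ := St4_cls (conj_mem_St hq)
    have h4 := List.all_eq_true.1 kinds4 r hr
    rw [Bool.and_eq_true] at h4
    rw [(kind_spec h4.1 (conj_of he)).1] at h4
    exact Bool.noConfusion h4.2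

end CfsgLib.Presented.Ly.Out
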