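import Cfsg.Agent.Lib.Presented.Ly.Out.Rel
import Cfsg.Agent.Lib.Presented.Ly.Out.A31
import Cfsg.Agent.Lib.Presented.Ly.ThreeCent.Eval

/-!
The three elements generate the presented Lyons group: products of them lying in G₂(5) give its five generators,
and one more gives the sixth.
-/
set_option autoImplicit false
set_option maxRecDepth 100000
set_option Elab.async false

namespace CfsgLib.Presented.Ly.Out

/-- the generators of the expressions -/
noncomputable def genAlpha : List (List ℕ) :=
  [wa, invWord LyH.alphabet wa, wb, invWord LyH.alphabet wb] ++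
    schWords.flatMap fun w => [w, invWord LyH.alphabet w]

theorem gen_ok : ((List.range 5).all fun i =>
    sameWord [2 * i] ((genExprs.getD i []).flatMap fun t => genAlpha.getD t [])) = true := by decide +kernel

theorem z_shape : (zPath.all (fun x => Nat.blt x 10) && zWord.all (fun x => Nat.blt x 10) &&
    schWords.all (fun w => w.all fun x => Nat.blt x 10) && Nat.beq schWords.length 3 &&
    [wa, wb].all (fun w => w.all fun x => Nat.blt x 10) &&
    [inv12 zPath ++ sixWord zExpr ++ zWord].all (fun w => w.all fun x => Nat.blt x 12)) = true := by decide +kernel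

theorem gen_top3 : Subgroup.closure ({aL, bL, cL} : Set Cfsg.Spor.Ly) = ⊤ := by
  set M := Subgroup.closure ({aL, bL, cL} : Set Cfsg.Spor.Ly)
  have ha : evW evL wa ∈ M := Subgroup.subset_closure (Or.inl rfl)
  have hb' : evW evL wb ∈ M := Subgroup.subset_closure (Or.inr (Or.inl rfl))
  have hc' : evW evL y2 ∈ M := Subgroup.subset_closure (Or.inr (Or.inr rfl))
  have inv : ∀ {w : List ℕ}, (∀ x ∈ w, x < 12) → evW evL w ∈ M → evW evL (inv12 w) ∈ M := fun hw h => by
    rw [evW_inv12 hw]; exact M.inv_mem h
  have hsix : ∀ w ∈ sixWords, evW evL w ∈ M := by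
    intro w hw
    simp only [sixWords, List.mem_cons, List.not_mem_nil, or_false] at hw
    rcases hw with rfl | rfl | rfl | rfl | rfl | rfl
    exacts [ha, inv (by decide +kernel) ha, hb', inv (by decide +kernel) hb', hc', inv (by decide +kernel) hc']
  have hprod : ∀ e : List ℕ, evW evL (sixWord e) ∈ M := by
    intro e
    rw [sixWord, evW_sub]
    refine M.list_prod_mem fun g hg => ?_
    obtain ⟨i, -, rfl⟩ := List.mem_map.1 hg
    rw [List.getD_eq_getElem?_getD]
    cases h : sixWords[i]? with
    | none => simp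
    | some v => exact hsix v (List.mem_of_getElem? h)
  have h := z_shape
  simp only [Bool.and_eq_true, List.all_eq_true, Nat.blt_eq, Nat.beq_eq] at h
  obtain ⟨⟨⟨⟨⟨hzp, hzw⟩, hsw⟩, hlen⟩, hab⟩, hz12⟩ := h
  have hsch : ∀ i < 3, toLy (evW ev (schWords.getD i [])) ∈ M := by
    intro i hi
    have hm : schWords.getD i [] ∈ schWords := by
      rw [List.getD_eq_getElem _ _ (hlen.symm ▸ hi)]; exact List.getElem_mem _
    rw [← evL_lt (hsw _ hm)]
    have hb12 : (schWords.getD i []).all (fun x => Nat.blt x 12) = true := by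
      simp only [List.all_eq_true, Nat.blt_eq]
      exact fun x hx => lt_trans (hsw _ hm x hx) (by norm_num)
    have hid : evW evL (sixWord (schExprs.getD i [])) = evW evL (schWords.getD i []) := by
      interval_cases i
      · exact evW_eq sch0_ok hb12 List.mem_cons_self
      · exact evW_eq sch1_ok hb12 List.mem_cons_self
      · exact evW_eq sch2_ok hb12 List.mem_cons_self
    rw [← hid]
    exact hprod _
  let U : Subgroup H5 := M.comap toLy
  have hU : ∀ w ∈ genAlpha, evW ev w ∈ U := by
    have hbase : ∀ w ∈ [wa, wb] ++ schWords, (∀ x ∈ w, x < 10) ∧ evW ev w ∈ U := by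
      intro w hw
      rcases List.mem_append.1 hw with hw | hw
      · refine ⟨hab w hw, ?_⟩
        show toLy (evW ev w) ∈ M
        rw [← evL_lt (hab w hw)]
        simp only [List.mem_cons, List.not_mem_nil, or_false] at hw
        rcases hw with rfl | rfl
        exacts [ha, hb']
      · obtain ⟨i, hi, rfl⟩ := List.getElem_of_mem hw
        refine ⟨hsw _ hw, ?_⟩
        have := hsch i (hlen ▸ hi)
        rwa [List.getD_eq_getElem _ _ hi] at this
    have hinv : ∀ w ∈ [wa, wb] ++ schWords, evW ev (invWord LyH.alphabet w) ∈ U := fun w hw => by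
      rw [evW_invWord ev_good fun x hx => ((hbase w hw).1 x hx).le]
      exact U.inv_mem (hbase w hw).2
    intro w hw
    simp only [genAlpha, List.mem_append, List.mem_cons, List.not_mem_nil, or_false, List.mem_flatMap] at hw
    rcases hw with (rfl | rfl | rfl | rfl) | ⟨v, hv, rfl | rfl⟩
    exacts [(hbase _ (by simp)).2, hinv _ (by simp), (hbase _ (by simp)).2, hinv _ (by simp),
      (hbase _ (by simp [hv])).2, hinv _ (by simp [hv])]
  have hUtop : U = ⊤ := by
    rw [eq_top_iff, ← gen_top, genBy, Subgroup.closure_le]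
    rintro _ ⟨x, hx, rfl⟩
    obtain ⟨i, hi, rfl⟩ : ∃ i < 5, x = 2 * i := by
      simp only [Set.mem_setOf_eq, List.mem_cons, List.not_mem_nil, or_false] at hx
      rcases hx with rfl | rfl | rfl | rfl | rfl
      exacts [⟨0, by decide⟩, ⟨1, by decide⟩, ⟨2, by decide⟩, ⟨3, by decide⟩, ⟨4, by decide⟩]
    have e := sameWord_sound (List.all_eq_true.1 gen_ok i (List.mem_range.2 hi))
    rw [show evW ev [2 * i] = ev (2 * i) by simp [evW]] at e
    show ev (2 * i) ∈ U
    rw [e]
    exact ThreeCent.gW_mem hU _
  have hrange : ∀ g : H5, toLy g ∈ M := fun g => (hUtop.ge (Subgroup.mem_top g) : g ∈ U)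
  have hgz : gz ∈ M := by
    have e := evW_eq z_ok (u := [10]) (v := inv12 zPath ++ sixWord zExpr ++ zWord)
      (by simp only [List.all_eq_true, Nat.blt_eq]; exact hz12 _ List.mem_cons_self) List.mem_cons_self
    rw [show evW evL [10] = gz by simp [evW, evL]] at e
    rw [e, evW_append, evW_append]
    refine M.mul_mem (M.mul_mem ?_ (hprod _)) ?_
    · exact inv (fun x hx => lt_trans (hzp x hx) (by norm_num)) (by rw [evL_lt hzp]; exact hrange _)
    · rw [evL_lt hzw]; exact hrange _
  rw [eq_top_iff, ← gen_Ly, Subgroup.closure_le, Set.insert_subset_iff]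
  exact ⟨hgz, by rintro _ ⟨g, rfl⟩; exact hrange g⟩

end CfsgLib.Presented.Ly.Out
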