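import Cfsg.Agent.Lib.Presented.Ly.Out.Basic

/-!
The check that a relation fails at a power of the element of order 31 and an element of the candidate list.
-/
set_option autoImplicit false
set_option maxRecDepth 100000

namespace CfsgLib.Presented.Ly.Out

open MatFive

/-- the facts of a list of failures: power, element, relation, vector, coordinate, image -/
def killCases (ks : List (ℕ × ℕ × ℕ × ℕ × ℕ × ℕ)) : List (List ℕ × ℕ × ℕ) :=
  ks.map fun e => (killWord e.1 (lcWords.getD e.2.1 []) e.2.2.1, 8 ^ e.2.2.2.1, e.2.2.2.2.2)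

/-- the failures hold -/
noncomputable def killOK (ks : List (ℕ × ℕ × ℕ × ℕ × ℕ × ℕ)) : Bool :=
  checkVec 111 LyMat.gens (killCases ks) && ks.all fun e =>
    Nat.blt e.2.2.1 3 && Nat.blt e.2.2.2.2.1 111 &&
      !Nat.beq (digit (8 ^ e.2.2.2.1) e.2.2.2.2.1 % 5) (digit e.2.2.2.2.2 e.2.2.2.2.1 % 5)

theorem kill_spec {ks : List (ℕ × ℕ × ℕ × ℕ × ℕ × ℕ)} (h : killOK ks = true) :
    ∀ e ∈ ks, e.2.2.1 < 3 ∧ evW evL (killWord e.1 (lcWords.getD e.2.1 []) e.2.2.1) ≠ 1 := by
  simp only [killOK, Bool.and_eq_true, List.all_eq_true, Bool.not_eq_true', Nat.blt_eq] at h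
  obtain ⟨hv, hall⟩ := h
  intro e he
  obtain ⟨⟨h3, hd⟩, hne⟩ := hall e he
  refine ⟨h3, ne_one_of_fact hv (List.mem_map_of_mem he) hd ?_⟩
  intro e'
  rw [e', Nat.beq_refl] at hne
  simp at hne

/-- the first relation does not involve the power -/
theorem killWord_zero (j j' : ℕ) (x : List ℕ) : killWord j x 0 = killWord j' x 0 := by
  simp [killWord, rels]

end CfsgLib.Presented.Ly.Out
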