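import Cfsg.Agent.Lib.Presented.Ly.Out.KillBase

/-! Generated: failing relations. -/
set_option autoImplicit false
set_option Elab.async false
set_option maxRecDepth 100000

namespace CfsgLib.Presented.Ly.Out

/-- failures -/
def kills18 : List (ℕ × ℕ × ℕ × ℕ × ℕ × ℕ) := [
  (8, 70, 1, 0, 0, 0xa180b6586d491b0a245326025104130c65a40865330161848469c8db8220832cb40b28109c69b693102),
  (8, 71, 1, 0, 0, 0x1036a190091468484b0020648c27143010a41116c471c51848a29b6446890c46d43195204a350c41c913),
  (8, 73, 1, 0, 0, 0x10920a5232144626d060c5136243096038444c26184886d181420b51b9001190538e02d96d400311405b),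
  (8, 75, 1, 0, 0, 0x939092dc4c308c51145261890b05432144191b6c88a32d265b8e10a30c21204892d009081164b2dc8a3),
  (8, 77, 1, 0, 0, 0x194044828e430489b60a5190d44a46012d086350488c86102265091305349030011991845c9112ca20b),
  (8, 82, 1, 0, 1, 0x9c62142200c9046c00138832138489204020020da49972211385a26109804911046251010b6080c1449),
  (8, 85, 1, 0, 0, 0x1127098c006371041051424285288888b1216d390b4582d066430280a0538e10e44800a12626428882d2),
  (8, 93, 1, 0, 0, 0x11b2004d984b8e26c98d22607140c90d80c84c820b3144a12a248b84b01b2d429310890004a05300c2d0),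
  (8, 94, 1, 0, 0, 0xc240b8c141c7018e10822c450148b90201049c25864011230c8985028da1123146a400b0c3851460713),
  (8, 99, 1, 0, 1, 0xc90d10488e369c4c948211328904400261891220348a8c88848c131b50a220102904721650209314111),
  (8, 104, 1, 0, 0, 0x1c68828a09a1128122234e429991a48c08c2e42192c95022d028c0548526ca2e032369b81985340a490),
  (8, 113, 1, 0, 0, 0xd042284465921c60972021029424021324350971901811160309a71c64c06169a82444b85840281c04c),
  (8, 129, 1, 0, 1, 0x8210b81a09909485929c00b0a305c3108420d804c04a4996cb31061064c2c11094826c188a503883509)]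

theorem kills18_ok : killOK kills18 = true := by decide +kernel

/-- failures -/
def kills19 : List (ℕ × ℕ × ℕ × ℕ × ℕ × ℕ) := [
  (8, 135, 1, 0, 1, 0x4b65c4d080c08b4439228418192118a246248404045852429c2630182c991a48371b1182e28228416d1),
  (8, 146, 1, 0, 0, 0x8a0d00214885034e104b2516212c88196432e009a81c64060244371a9148628dc50924025c09c46100a),
  (8, 163, 1, 0, 0, 0x4006010b68090890a88c49269a05c8613209240a08048cb1134033146a49112c88048d86422228112ca),
  (8, 167, 1, 0, 0, 0xdc00c11c62000a4596ca84b10c04246309410010948360a4e16a24c41034210100810c468c71a40909c),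
  (8, 181, 1, 0, 0, 0xe14d088a69951b0039136d20e38e421470051a71a4e300488129a05a0626e105491c4c820451b2894d0),
  (8, 193, 1, 0, 0, 0x4c8434c46810d245b09425968a5245036616a321a31044849306129a0c166291011988488291490081c),
  (8, 212, 1, 0, 0, 0x1098646148d88015080e108985a80c4d950b2986c08890ca20921a64a2cb29425981209322481c082924),
  (8, 224, 1, 0, 0, 0x8289171271868b5208c12120ca01241b24350061972320924a4548086248a20244c330320c85161929c),
  (8, 230, 1, 0, 0, 0xe240168c8980c080284a4ca00161010b06000165a61c2012040592a40d141981c64b06321268c2e208a),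
  (8, 250, 1, 0, 1, 0x9a4dc06149200040462010260c65028c6a124361070a1204a46984d168c60c0227204a010104c262521),
  (8, 252, 1, 0, 0, 0x1044e271c32404901324b6e409144a8438124a22e20834cc80b85041441280c2cb81288a4518d3462293),
  (8, 280, 1, 0, 0, 0x5b64b0102d82996512409108cc80160901251a88020466340224c21c4006d141c2240418146e4849898),
  (8, 287, 1, 0, 0, 0xc24527144430e04cb49a70a3210dc4592ca88860b0915218841112010610c32600a08a489866411a802)]

theorem kills19_ok : killOK kills19 = true := by decide +kernel

/-- failures -/
def kills20 : List (ℕ × ℕ × ℕ × ℕ × ℕ × ℕ) := [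
  (8, 291, 1, 0, 1, 0x936cc4238e44d161120a92485125830a0d824c6012e40c860070931b9184dc5202636e10d264a4a08d9),
  (8, 298, 1, 0, 0, 0xc16d86cc10b01460341128a6c140c60469c8445094c001944a4d004c60380a31a91149a41c2da810513),
  (8, 310, 1, 0, 0, 0x8488132184384a2212a288424a8642024c38245004410c80916232505208d148c4d46d37190c44d9813)]

theorem kills20_ok : killOK kills20 = true := by decide +kernel

end CfsgLib.Presented.Ly.Out
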