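import Cfsg.Agent.Lib.Presented.Ly.Out.KillA
import Cfsg.Agent.Lib.Presented.Ly.Out.KillB
import Cfsg.Agent.Lib.Presented.Ly.Out.KillC
import Cfsg.Agent.Lib.Presented.Ly.Out.KillD
import Cfsg.Agent.Lib.Presented.Ly.Out.KillE
import Cfsg.Agent.Lib.Presented.Ly.Out.KillF
import Cfsg.Agent.Lib.Presented.Ly.Out.KillG
import Cfsg.Agent.Lib.Presented.Ly.ThreeCent.Eval

/-!
Every candidate but the given one fails a relation.
-/
set_option autoImplicit false
set_option maxRecDepth 100000

namespace CfsgLib.Presented.Ly.Out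

/-- all failures -/
def allKills : List (ℕ × ℕ × ℕ × ℕ × ℕ × ℕ) := kills0 ++ kills1 ++ kills2 ++ kills3 ++ kills4 ++ kills5 ++ kills6 ++ kills7 ++ kills8 ++ kills9 ++ kills10 ++ kills11 ++ kills12 ++ kills13 ++ kills14 ++ kills15 ++ kills16 ++ kills17 ++ kills18 ++ kills19 ++ kills20

theorem all_kill : ∀ e ∈ allKills, e.2.2.1 < 3 ∧ evW evL (killWord e.1 (lcWords.getD e.2.1 []) e.2.2.1) ≠ 1 := by
  intro e he
  simp only [allKills, List.mem_append] at he
  rcases he with (((((((((((((((((((he | he) | he) | he) | he) | he) | he) | he) | he) | he) | he) | he) | he) | he) | he) | he) | he) | he) | he) | he) | he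
  exacts [kill_spec kills0_ok e he, kill_spec kills1_ok e he, kill_spec kills2_ok e he, kill_spec kills3_ok e he, kill_spec kills4_ok e he, kill_spec kills5_ok e he, kill_spec kills6_ok e he, kill_spec kills7_ok e he, kill_spec kills8_ok e he, kill_spec kills9_ok e he, kill_spec kills10_ok e he, kill_spec kills11_ok e he, kill_spec kills12_ok e he, kill_spec kills13_ok e he, kill_spec kills14_ok e he, kill_spec kills15_ok e he, kill_spec kills16_ok e he, kill_spec kills17_ok e he, kill_spec kills18_ok e he, kill_spec kills19_ok e he, kill_spec kills20_ok e he]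

/-- the failures usable at a power -/
noncomputable def killMask (j : ℕ) : ℕ :=
  ThreeCent.maskOf ((allKills.filter fun e => Nat.beq e.2.2.1 0 || Nat.beq e.1 j).map fun e => e.2.1)

theorem cover_ok : ([1, 2, 3, 4, 8].all fun j => Nat.beq
    (Nat.lor (killMask j) (cond (Nat.beq j 1) (Nat.shiftLeft 1 36) 0)) (Vec.ones 324)) = true := by decide +kernel

theorem killed {j : ℕ} (hj : j ∈ [1, 2, 3, 4, 8]) {k : ℕ} (hk : k < 324) (hs : ¬ (j = 1 ∧ k = 36)) :
    ∃ r < 3, evW evL (killWord j (lcWords.getD k []) r) ≠ 1 := by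
  have h := Nat.eq_of_beq_eq_true (List.all_eq_true.1 cover_ok j hj)
  have hb := congrArg (fun v => v.testBit k) h
  change (killMask j ||| cond (Nat.beq j 1) (1 <<< 36) 0).testBit k = (Vec.ones 324).testBit k at hb
  rw [Vec.testBit_ones, decide_eq_true hk, Nat.testBit_or, Bool.or_eq_true] at hb
  rcases hb with hb | hb
  · obtain ⟨e, he, rfl⟩ := List.mem_map.1 ((ThreeCent.testBit_maskOf _ _).1 hb)
    obtain ⟨he, hor⟩ := List.mem_filter.1 he
    obtain ⟨h3, hne⟩ := all_kill e he
    rw [Bool.or_eq_true, Nat.beq_eq, Nat.beq_eq] at hor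
    refine ⟨e.2.2.1, h3, ?_⟩
    rcases hor with h0 | rfl
    · rw [h0] at hne ⊢
      rwa [killWord_zero j e.1]
    · exact hne
  · exfalso
    cases hj1 : Nat.beq j 1
    · simp [hj1] at hb
    · rw [hj1, cond_true, Nat.one_shiftLeft, Nat.testBit_two_pow, decide_eq_true_eq] at hb
      exact hs ⟨Nat.eq_of_beq_eq_true hj1, hb.symm⟩

end CfsgLib.Presented.Ly.Out
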