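import Cfsg.Agent.Lib.Presented.Ly.Out.Kills
import Cfsg.Agent.Lib.Presented.Ly.Out.FixB
import Cfsg.Agent.Lib.Presented.Ly.Out.Gen
import Cfsg.Agent.Lib.Schur.OutRigid

/-!
The presented Lyons group has no outer automorphisms.
-/
set_option autoImplicit false
set_option maxRecDepth 100000

namespace CfsgLib.Presented.Ly.Out

open Dce (P0 P2 P3 S2_3 S3_3 fix2_3 fix3_3)
open ThreeCent (gW)

theorem bL_eq : bL = toLy b5 := evL_lt (by decide +kernel)

theorem y_shape : y2 = kp2 ++ [10] ++ mid2 ++ [10] ++ inv12 back2 ∧ y3 = kp3 ++ [10] ++ mid3 ++ [10] ++ inv12 back3 ∧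
    [kp2, kp3, mid2, mid3, back2, back3, inv12 back2, inv12 back3].all
      (fun w => w.all fun x => Nat.blt x 10) = true := by decide +kernel

theorem y_P0 : evW evL y2 • P0 = toLy (evW ev kp2) • P2 ∧ evW evL y3 • P0 = toLy (evW ev kp3) • P3 := by
  obtain ⟨e2, e3, hlt⟩ := y_shape
  simp only [List.all_eq_true, Nat.blt_eq, List.forall_mem_cons] at hlt
  obtain ⟨a, b, c, d, -, -, g, h, -⟩ := hlt
  have key : ∀ kp mid bk : List ℕ, (∀ x ∈ kp, x < 10) → (∀ x ∈ mid, x < 10) → (∀ x ∈ bk, x < 10) →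
      evW evL (kp ++ [10] ++ mid ++ [10] ++ bk) • P0 = toLy (evW ev kp) • gz • T mid • gz • pBase := by
    intro kp mid bk hk hm hb
    rw [evW_append, evW_append, evW_append, evW_append, evL_lt hk, evL_lt hm, evL_lt hb,
      show evW evL [10] = gz by simp [evW, evL], mul_smul, mul_smul, mul_smul, mul_smul, toLy_smul_P0]
    rfl
  exact ⟨e2 ▸ key kp2 mid2 _ a c g, e3 ▸ key kp3 mid3 _ b d h⟩

theorem move_ok : (([(trans2, move2, kp2, S2_3), (trans3, move3, kp3, S3_3)] :
    List (List ℕ × List (ℕ × List ℕ) × List ℕ × List (List ℕ))).all fun d =>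
    (List.range 36).all fun i => d.1.contains (d.2.1.getD i (0, [])).1 &&
      sameWord (cent36.getD (d.2.1.getD i (0, [])).1 [] ++ d.2.2.1 ++ gW d.2.2.2 (d.2.1.getD i (0, [])).2)
        (cent36.getD i [] ++ d.2.2.1)) = true := by decide +kernel

theorem cent36_length : cent36.length = 36 := by decide +kernel

theorem mem_range_of_fix {x : Cfsg.Spor.Ly} (h : x • P0 = P0) : x ∈ toLy.range := by
  rw [Dce.P0, pBase, MulAction.Quotient.smul_coe, smul_eq_mul, mul_one] at h
  have := QuotientGroup.eq.1 h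
  rwa [mul_one, inv_mem_iff] at this

theorem cent_range {x : Cfsg.Spor.Ly} (hx : Commute x bL) (h : x • P0 = P0) :
    ∃ w ∈ cent36, x = evW evL w := by
  obtain ⟨g, rfl⟩ := mem_range_of_fix h
  have hc : Commute g b5 := toLy_injective (by rw [map_mul, map_mul, ← bL_eq]; exact hx.eq)
  obtain ⟨w, hw, rfl⟩ := cent_b5 hc
  exact ⟨w, hw, (evL_lt fun y hy => ThreeCent.lt_of_ok (cent_comm hw).1 y hy).symm⟩

theorem split_of {tr : List ℕ} {mv : List (ℕ × List ℕ)} {kp y : List ℕ} {gens : List (List ℕ)} {P : XLy}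
    (hfix : Fix gens P) (hy : evW evL y • P0 = toLy (evW ev kp) • P) (hyb : Commute (evW evL y) bL)
    (hmv : ((List.range 36).all fun i => tr.contains (mv.getD i (0, [])).1 &&
      sameWord (cent36.getD (mv.getD i (0, [])).1 [] ++ kp ++ gW gens (mv.getD i (0, [])).2)
        (cent36.getD i [] ++ kp)) = true)
    {x : Cfsg.Spor.Ly} (hx : Commute x bL) {c : H5} (hc : Commute c b5)
    (hq : x • P0 = toLy (c * evW ev kp) • P) :
    ∃ t ∈ tr, ∃ w ∈ cent36, x = evW evL (cent36.getD t [] ++ y ++ w) := by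
  obtain ⟨w0, hw0, rfl⟩ := cent_b5 hc
  obtain ⟨i, hi, rfl⟩ := List.getElem_of_mem hw0
  have hm := List.all_eq_true.1 hmv i (List.mem_range.2 (cent36_length ▸ hi))
  rw [Bool.and_eq_true, List.contains_iff_mem, List.getD_eq_getElem cent36 [] hi] at hm
  obtain ⟨ht, hs⟩ := hm
  generalize hT : cent36.getD (mv.getD i (0, [])).1 [] = ct at hs
  have hct : ThreeCent.ok ct = true ∧ Commute (evW ev ct) b5 := by
    rw [← hT, List.getD_eq_getElem?_getD]
    cases h : cent36[(mv.getD i (0, [])).1]? with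
    | none => exact ⟨rfl, by simp⟩
    | some v => exact cent_comm (List.mem_of_getElem? h)
  have e := sameWord_sound hs
  rw [evW_append, evW_append, evW_append] at e
  rw [← e, map_mul, mul_smul, mem_St.1 (show evW ev (gW gens (mv.getD i (0, [])).2) ∈ St P from
    ThreeCent.gW_mem (fun v hv => hfix v hv) _), map_mul, mul_smul, ← hy, ← mul_smul] at hq
  set A := toLy (evW ev ct) * evW evL y with hA
  have hAb : Commute A bL := by
    refine Commute.mul_left ?_ hyb
    rw [bL_eq]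
    exact hct.2.map toLy
  obtain ⟨w, hw, hxw⟩ := cent_range (x := A⁻¹ * x) (hAb.inv_left.mul_left hx)
    (by rw [mul_smul, hq, inv_smul_smul])
  refine ⟨_, ht, w, hw, ?_⟩
  rw [hT, evW_append, evW_append, evL_lt fun z hz => ThreeCent.lt_of_ok hct.1 z hz, ← hA, ← hxw, mul_inv_cancel_left]

/-- the candidates -/
noncomputable def Lc : List Cfsg.Spor.Ly := lcWords.map fun w => evW evL w

theorem mem_Lc {x : Cfsg.Spor.Ly} (hx : Commute x bL) : x ∈ Lc := by
  suffices h : ∃ w ∈ lcWords, x = evW evL w by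
    obtain ⟨w, hw, rfl⟩ := h
    exact List.mem_map.2 ⟨w, hw, rfl⟩
  have hfix : toLy b5 • x • P0 = x • P0 := by
    rw [← bL_eq, ← mul_smul, ← hx.eq, mul_smul, bL_eq, toLy_smul_P0]
  have hm := move_ok
  simp only [List.all_cons, List.all_nil, Bool.and_true, Bool.and_eq_true] at hm
  rcases fix_b hfix with h | ⟨c, hc, h | h⟩
  · obtain ⟨w, hw, e⟩ := cent_range hx h
    exact ⟨w, by simp [lcWords, hw], e⟩
  · obtain ⟨t, ht, w, hw, e⟩ := split_of fix2_3 y_P0.1 y2_comm hm.1 hx hc h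
    exact ⟨_, List.mem_append_left _ (List.mem_append_right _
      (List.mem_flatMap.2 ⟨t, ht, List.mem_map.2 ⟨w, hw, rfl⟩⟩)), e⟩
  · obtain ⟨t, ht, w, hw, e⟩ := split_of fix3_3 y_P0.2 y3_comm hm.2 hx hc h
    exact ⟨_, List.mem_append_right _ (List.mem_flatMap.2 ⟨t, ht, List.mem_map.2 ⟨w, hw, rfl⟩⟩), e⟩

theorem lc_shape : lcWords.length = 324 ∧ lcWords.getD 36 [] = y2 := by decide +kernel

theorem reps_ok : ∀ j < 31, j ≠ 0 → ∃ i ∈ List.range 6, j * 26 ^ i % 31 ∈ [1, 2, 3, 4, 8] := by decide +kernel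

theorem rels_shape : rels.length = 3 ∧ ∀ r ∈ rels, ∀ i ∈ r.1, i < 3 := by decide +kernel

theorem evalThree_eq (x : Cfsg.Spor.Ly) (j : ℕ) (w : List ℕ) (hx : evW evL w = x) (r : ℕ) :
    CfsgLib.Schur.evalThree (aL ^ j) bL x (rels.getD r ([], 0)).1 ^ (rels.getD r ([], 0)).2 =
      evW evL (killWord j w r) := by
  rw [evW_kill]
  congr 1
  induction (rels.getD r ([], 0)).1 with
  | nil => rfl
  | cons i l ih =>
    rw [CfsgLib.Schur.evalThree, ih, List.map_cons, List.prod_cons]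
    congr 1
    rcases i with _ | _ | _ | i
    · simp [aL, evW_rep]
    · simp [bL]
    · simp [hx]
    · simp

theorem card_out : Nat.card (Cfsg.Out Cfsg.Spor.Ly) = 1 := by
  classical
  haveI := finite_Ly
  haveI : Fact (Nat.Prime 31) := ⟨by norm_num⟩
  have hrel : ∀ r ∈ rels, CfsgLib.Schur.evalThree aL bL cL r.1 ^ r.2 = 1 := by
    intro r hr
    obtain ⟨n, hn, rfl⟩ := List.getElem_of_mem hr
    have h := evalThree_eq cL 1 y2 rfl n
    rw [pow_one, List.getD_eq_getElem _ _ hn, rel_hold n (rels_shape.1 ▸ hn)] at h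
    exact h
  have hle := CfsgLib.Schur.card_out_le aL bL cL 31 26 1 orderOf_aL
    (by rw [card_Ly]; norm_num) (fun x hx => cent_aL hx) hb (by norm_num) [1, 2, 3, 4, 8]
    (fun j hj hj0 => let ⟨i, _, hi⟩ := reps_ok j hj hj0; ⟨i, hi⟩)
    (by rw [pow_one, mul_inv_eq_iff_eq_mul]; exact y2_comm) Lc
    (fun x hx => mem_Lc (by rw [pow_one, mul_inv_eq_iff_eq_mul] at hx; exact hx))
    gen_top3 rels hrel [(1, cL)]
    (fun j hj x hx h => by
      obtain ⟨w, hw, rfl⟩ := List.mem_map.1 hx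
      obtain ⟨k, hk, rfl⟩ := List.getElem_of_mem hw
      rw [List.mem_singleton, Prod.mk.injEq]
      by_cases hs : j = 1 ∧ k = 36
      · obtain ⟨rfl, rfl⟩ := hs
        refine ⟨rfl, ?_⟩
        have e := lc_shape.2
        rw [List.getD_eq_getElem _ _ hk] at e
        rw [e]
        rfl
      · exfalso
        obtain ⟨r, hr, hne⟩ := killed hj (lc_shape.1 ▸ hk) hs
        apply hne
        rw [List.getD_eq_getElem _ _ hk, ← evalThree_eq _ j _ rfl r]
        refine h _ ?_
        rw [List.getD_eq_getElem _ _ (rels_shape.1.symm ▸ hr)]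
        exact List.getElem_mem _)
  exact le_antisymm hle Nat.card_pos

end CfsgLib.Presented.Ly.Out
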