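import Cfsg.Agent.Lib.Presented.Ly.Out.Basic
import Cfsg.Agent.Lib.Presented.Ly.Out.DataRel

/-!
The identities in the presented Lyons group needed for its automorphisms, checked on the representation.
-/
set_option autoImplicit false
set_option maxRecDepth 100000
set_option Elab.async false

namespace CfsgLib.Presented.Ly.Out

open MatFive

/-- the element of order 6 -/
noncomputable def bL : Cfsg.Spor.Ly := evW evL wb
/-- the third element -/
noncomputable def cL : Cfsg.Spor.Ly := evW evL y2

/-- the six signed generators -/
def sixWords : List (List ℕ) := [wa, inv12 wa, wb, inv12 wb, y2, inv12 y2]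

/-- a product of them -/
def sixWord (e : List ℕ) : List ℕ := e.flatMap fun i => sixWords.getD i []

/-- short identities -/
def shortIds : List (List ℕ) :=
  [wb ++ wa ++ inv12 wb ++ inv12 (List.replicate 26 wa).flatten,
    (y2 ++ wb) ++ inv12 (wb ++ y2), (y3 ++ wb) ++ inv12 (wb ++ y3)]

theorem short_ok : checkId 111 LyMat.gens shortIds = true := by decide +kernel

theorem rel0_ok : checkId 111 LyMat.gens [killWord 1 y2 0] = true := by decide +kernel

theorem rel1_ok : checkId 111 LyMat.gens [killWord 1 y2 1] = true := by decide +kernel

theorem rel2_ok : checkId 111 LyMat.gens [killWord 1 y2 2] = true := by decide +kernel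

theorem sch0_ok : checkId 111 LyMat.gens [sixWord (schExprs.getD 0 []) ++ inv12 (schWords.getD 0 [])] = true := by
  decide +kernel

theorem sch1_ok : checkId 111 LyMat.gens [sixWord (schExprs.getD 1 []) ++ inv12 (schWords.getD 1 [])] = true := by
  decide +kernel

theorem sch2_ok : checkId 111 LyMat.gens [sixWord (schExprs.getD 2 []) ++ inv12 (schWords.getD 2 [])] = true := by
  decide +kernel

theorem z_ok : checkId 111 LyMat.gens [[10] ++ inv12 (inv12 zPath ++ sixWord zExpr ++ zWord)] = true := by
  decide +kernel

theorem words_lt : ((schWords ++ [wa, wb, y2, y3, zPath, zWord, zPath ++ zWord]).all fun w =>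
    w.all fun x => Nat.blt x 12) = true := by decide +kernel

theorem hb : bL * evW evL wa * bL⁻¹ = evW evL wa ^ 26 := by
  have h := evW_eq short_ok (u := wb ++ wa ++ inv12 wb) (v := (List.replicate 26 wa).flatten)
    (by decide +kernel) List.mem_cons_self
  have hw : ∀ x ∈ wb, x < 12 := by decide +kernel
  rwa [evW_append, evW_append, evW_inv12 hw, evW_rep] at h

theorem y2_comm : cL * bL = bL * cL := by
  have h := evW_eq short_ok (u := y2 ++ wb) (v := wb ++ y2) (by decide +kernel)
    (List.mem_cons_of_mem _ List.mem_cons_self)
  rwa [evW_append, evW_append] at h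

theorem y3_comm : evW evL y3 * bL = bL * evW evL y3 := by
  have h := evW_eq short_ok (u := y3 ++ wb) (v := wb ++ y3) (by decide +kernel)
    (List.mem_cons_of_mem _ (List.mem_cons_of_mem _ List.mem_cons_self))
  rwa [evW_append, evW_append] at h

theorem evW_kill (j : ℕ) (x : List ℕ) (r : ℕ) :
    evW evL (killWord j x r) =
      (((rels.getD r ([], 0)).1.map fun i => evW evL ([(List.replicate j wa).flatten, wb, x].getD i [])).prod) ^
        (rels.getD r ([], 0)).2 := by
  rw [killWord, evW_rep, evW_sub]

theorem rel_hold : ∀ r < 3, evW evL (killWord 1 y2 r) = 1 := by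
  intro r hr
  interval_cases r
  · exact rel_one rel0_ok List.mem_cons_self
  · exact rel_one rel1_ok List.mem_cons_self
  · exact rel_one rel2_ok List.mem_cons_self

end CfsgLib.Presented.Ly.Out
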